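import Groth.Agent.IntFunLib.Kleiman

/-!
# Applications of Kleiman's theorem
-/

set_option autoImplicit false
set_option linter.style.haveILetI false
universe u

open CategoryTheory CategoryTheory.Limits AlgebraicGeometry TopologicalSpace Opposite
open HilbPolyLib DevissLib IntMultLib

noncomputable section

namespace IntFunLib

variable {k : Type u} [Field k] {X : Scheme.{u}} [X.Over (Spec (CommRingCat.of k))]
  [IsProper (X ↘ Spec (CommRingCat.of k))]

omit [IsProper (X ↘ Spec (CommRingCat.of k))] in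
theorem N_singleton (L : X.Modules) (C : X.IdealSheafData) : N k [L] (ClSub.quotMod C) = cd k L C := by
  rw [N, N, N, cd, CurvLib.euler_congr (swapIso L (ClSub.quotMod C))]

omit [X.Over (Spec (CommRingCat.of k))] [IsProper (X ↘ Spec (CommRingCat.of k))] in
theorem dim_ptIdeal (ξ : X) :
    topologicalKrullDim ((ptIdeal ξ).support : Set X) = topologicalKrullDim (closure ({ξ} : Set X)) := by
  rw [Scheme.IdealSheafData.coe_support_vanishingIdeal ⟨closure {ξ}, isClosed_closure⟩]
  rfl

/-- Nefness from nonnegative degrees on integral curves. -/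
theorem nef_of_cd {L : X.Modules} (h : ∀ C : X.IdealSheafData, IsIntegral C.subscheme →
    topologicalKrullDim (C.support : Set X) = 1 → 0 ≤ cd k L C) : Nef k L := fun ξ hξ => by
  rw [N_singleton]
  exact h _ (isIntegral_ptIdeal ξ) (by rw [dim_ptIdeal, hξ, Nat.cast_one])

omit [X.Over (Spec (CommRingCat.of k))] [IsProper (X ↘ Spec (CommRingCat.of k))] in
theorem dim_generic_of_support (Z : X.IdealSheafData) [IsIntegral Z.subscheme] :
    topologicalKrullDim (closure ({Z.subschemeι (genericPoint Z.subscheme)} : Set X)) =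
      topologicalKrullDim (Z.support : Set X) := by
  conv_rhs => rw [eq_ptIdeal Z]
  rw [dim_ptIdeal]

/-- Kleiman's theorem for coefficients. -/
theorem coeff_nonneg_of_nef {L : X.Modules} (hL : PicF.IsInvertible L) (hn : Nef k L)
    (Z : X.IdealSheafData) [IsIntegral Z.subscheme] {d : ℕ}
    (hd : topologicalKrullDim (Z.support : Set X) = d) (P : MvPolynomial (Fin d) ℚ)
    (hP : hilb k (fun _ : Fin d => L) (ClSub.quotMod Z) = pfun P) : 0 ≤ P.coeff (oneExp d) := by
  rw [coeff_eq_N L hL Z hd P hP, eq_ptIdeal Z]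
  exact_mod_cast N_nef_nonneg (k := k) hL hn ((dim_generic_of_support Z).trans hd)

end IntFunLib

end

noncomputable section

namespace IntFunLib

open HilbPolyLib DevissLib IntMultLib

variable {k : Type u} [Field k]

/-- The degree of an ample module on an integral curve is positive. -/
theorem euler_sub_pos {Y : Scheme.{u}} [Y.Over (Spec (CommRingCat.of k))]
    [IsProper (Y ↘ Spec (CommRingCat.of k))] [IsIntegral Y] (hY : topologicalKrullDim Y = 1)
    {B : Y.Modules} (hB : CohB1.IsAmple B) :
    0 < Curv2.euler k Y B - Curv2.euler k Y (Coh.structureModule Y) := by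
  have hl : ∀ A ∈ [B], PicF.IsInvertible A := by simpa using hB.1
  have h1 := N_ample_pos (k := k) (d := 1) hB (ξ := genericPoint Y)
    (by rw [dim_closure_generic, hY, Nat.cast_one])
  rw [show List.replicate 1 B = [B] from rfl, ← N_structure hl (by rw [hY]; simp)] at h1
  rw [N, N, N, CurvLib.euler_congr (swapIso B (Coh.structureModule Y) ≪≫ unitLeft B)] at h1
  exact h1

theorem euler_sub_eq_N {Y : Scheme.{u}} [Y.Over (Spec (CommRingCat.of k))] (B : Y.Modules) :
    Curv2.euler k Y B - Curv2.euler k Y (Coh.structureModule Y) = N k [B] (Coh.structureModule Y) := by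
  rw [N, N, N, CurvLib.euler_congr (swapIso B (Coh.structureModule Y) ≪≫ unitLeft B)]

/-- If all `L^ν ⊗ A` are ample then `L` has nonnegative degree on curves. -/
theorem curveDeg_nonneg {X : Scheme.{u}} [X.Over (Spec (CommRingCat.of k))]
    [IsProper (X ↘ Spec (CommRingCat.of k))] {A L : X.Modules} (hA : PicF.IsInvertible A)
    (hL : PicF.IsInvertible L) (h : ∀ ν : ℕ, 0 < ν → CohB1.IsAmple (CohB1.tensorMod (CohB1.tensorPow L ν) A))
    {Y : Scheme.{u}} (i : Y ⟶ X) [IsClosedImmersion i] [IsIntegral Y] (hY : topologicalKrullDim Y = 1) :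
    0 ≤ Pic13.curveDeg k (i ≫ (X ↘ Spec (CommRingCat.of k))) ((Scheme.Modules.pullback i).obj L) := by
  letI : Y.Over (Spec (CommRingCat.of k)) := ⟨i ≫ (X ↘ Spec (CommRingCat.of k))⟩
  haveI : IsProper (Y ↘ Spec (CommRingCat.of k)) :=
    inferInstanceAs (IsProper (i ≫ (X ↘ Spec (CommRingCat.of k))))
  have hY' : topologicalKrullDim Y ≤ ((1 : ℕ) : WithBot ℕ∞) := by rw [hY, Nat.cast_one]
  simp only [Pic13.curveDeg]
  rw [eulerCharLE_eq hY', eulerCharLE_eq hY', euler_sub_eq_N]
  set LY := (Scheme.Modules.pullback i).obj L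
  set AY := (Scheme.Modules.pullback i).obj A
  have hLY : PicF.IsInvertible LY := AmpleDevLib.isInvertible_pb i hL
  have hAY : PicF.IsInvertible AY := AmpleDevLib.isInvertible_pb i hA
  have hO := DevissLib.isCoh_structureModule Y
  have hnil : ∀ B ∈ ([] : List Y.Modules), PicF.IsInvertible B := by simp
  have hdim : topologicalKrullDim (CohB1.support (Coh.structureModule Y)) ≤ (([] : List Y.Modules).length + 1 : ℕ) :=
    (topologicalKrullDim_subspace_le _ _).trans hY'
  by_contra hneg
  push Not at hneg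
  obtain ⟨ν, hν0, hν⟩ : ∃ ν : ℕ, 0 < ν ∧
      (ν : ℤ) * N k [LY] (Coh.structureModule Y) + N k [AY] (Coh.structureModule Y) ≤ 0 :=
    ⟨(N k [AY] (Coh.structureModule Y)).toNat + 1, Nat.succ_pos _, by
      have := Int.self_le_toNat (N k [AY] (Coh.structureModule Y))
      push_cast
      nlinarith⟩
  obtain ⟨ψ, -⟩ := AmpleDevLib.exists_pullPowIso i hL ν
  haveI := KFlatLib.isIso_pullθ i (CohB1.tensorPow L ν) A
  have hinv := isInvertible_tensor (AmpleThLib.tensorPow_isInvertible hLY ν) hAY
  have hamp : CohB1.IsAmple (CohB1.tensorMod (CohB1.tensorPow LY ν) AY) :=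
    AmpleDevLib.isAmple_of_iso (AmpleDevLib.isInvertible_pb i (h ν hν0).1) hinv
      (@asIso _ _ _ _ (KFlatLib.pullθ i (CohB1.tensorPow L ν) A) ‹_› ≪≫ congrLeft ψ _)
      (AmpleDevLib.isAmple_pb i (h ν hν0).1 (h ν hν0))
  have hpos := euler_sub_pos (k := k) hY hamp
  rw [euler_sub_eq_N, N_tensor hnil (AmpleThLib.tensorPow_isInvertible hLY ν) hAY hO hdim,
    N_pow hnil hLY hO hdim] at hpos
  omega

end IntFunLib

end
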