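import Groth.Agent.S11371
import Groth.Agent.IntMultLib.Components
import Groth.Agent.IntMultLib.Positive
import Groth.Prelude.Def_Pic13

/-!
# Degrees on curves and numerical invariance of intersection numbers
-/

set_option autoImplicit false
set_option linter.style.haveILetI false
universe u

open CategoryTheory CategoryTheory.Limits AlgebraicGeometry TopologicalSpace Opposite
open HilbPolyLib DevissLib IntMultLib

noncomputable section

namespace IntFunLib

variable {k : Type u} [Field k] {X : Scheme.{u}} [X.Over (Spec (CommRingCat.of k))]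
  [IsProper (X ↘ Spec (CommRingCat.of k))]

omit [IsProper (X ↘ Spec (CommRingCat.of k))] in
variable (k) in
/-- The degree of `A` on the closed subscheme of `C`. -/
def cd (A : X.Modules) (C : X.IdealSheafData) : ℤ :=
  Curv2.euler k X (CohB1.tensorMod (ClSub.quotMod C) A) - Curv2.euler k X (ClSub.quotMod C)

omit [IsProper (X ↘ Spec (CommRingCat.of k))] in
theorem cd_congr {A B : X.Modules} (e : A ≅ B) (C : X.IdealSheafData) : cd k A C = cd k B C := by
  rw [cd, cd, CurvLib.euler_congr (congrRight _ e)]

omit [IsProper (X ↘ Spec (CommRingCat.of k))] in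
theorem cd_unit (C : X.IdealSheafData) : cd k (Coh.structureModule X) C = 0 := by
  rw [cd, CurvLib.euler_congr (swapIso _ _ ≪≫ unitLeft (ClSub.quotMod C)), sub_self]

theorem cd_eq_intNum {D : ℕ} (hD : topologicalKrullDim X ≤ (D : ℕ)) (A : X.Modules) (C : X.IdealSheafData) :
    cd k A C = - FGA.intNum k X D (Fin.cons A Fin.elim0) (ClSub.quotMod C) := by
  rw [intNum_cons hD, intNum_zero hD, intNum_zero hD, cd, CurvLib.euler_congr (swapIso _ A)]
  ring

theorem dim_quotMod_le {C : X.IdealSheafData} (hC : topologicalKrullDim (C.support : Set X) = 1) :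
    topologicalKrullDim (CohB1.support (ClSub.quotMod C)) ≤ ((0 + 1 : ℕ) : WithBot ℕ∞) :=
  ((Topology.IsEmbedding.inclusion (CurvLib.support_quotMod_subset C)).isInducing.topologicalKrullDim_le).trans
    (hC.trans (by norm_num)).le

theorem cd_tensor {A B : X.Modules} (hA : PicF.IsInvertible A) (hB : PicF.IsInvertible B)
    {C : X.IdealSheafData} (hC : topologicalKrullDim (C.support : Set X) = 1) :
    cd k (CohB1.tensorMod A B) C = cd k A C + cd k B C := by
  haveI := CurvLib.isNoetherian k (X := X)
  obtain ⟨D, hD⟩ := exists_dim_lt k (X := X)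
  rw [cd_eq_intNum hD.le, cd_eq_intNum hD.le, cd_eq_intNum hD.le,
    intNum_tensor hD.le _ (fun i => Fin.elim0 i) hA hB _ (CurvLib.isCoh_quotMod C) (dim_quotMod_le hC)]
  ring

theorem cd_pow {A : X.Modules} (hA : PicF.IsInvertible A) {C : X.IdealSheafData}
    (hC : topologicalKrullDim (C.support : Set X) = 1) (n : ℕ) :
    cd k (CohB1.tensorPow A n) C = n * cd k A C := by
  induction n with
  | zero => rw [CohB1.tensorPow, cd_unit]; simp
  | succ n ih =>
    rw [CohB1.tensorPow, cd_tensor (AmpleThLib.tensorPow_isInvertible hA n) hA hC, ih]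
    push_cast
    ring

theorem curveDeg_eq {L : X.Modules} (hL : PicF.IsInvertible L) {C : X.IdealSheafData}
    (hC : topologicalKrullDim (C.support : Set X) = 1) :
    Pic13.curveDeg k (C.subschemeι ≫ (X ↘ Spec (CommRingCat.of k)))
      ((Scheme.Modules.pullback C.subschemeι).obj L) = cd k L C := by
  letI : C.subscheme.Over (Spec (CommRingCat.of k)) := ⟨C.subschemeι ≫ (X ↘ Spec (CommRingCat.of k))⟩
  haveI : IsProper (C.subscheme ↘ Spec (CommRingCat.of k)) :=
    inferInstanceAs (IsProper (C.subschemeι ≫ (X ↘ Spec (CommRingCat.of k))))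
  have hd : topologicalKrullDim C.subscheme ≤ ((1 : ℕ) : WithBot ℕ∞) := by
    rw [Nat.cast_one, ← hC, ← C.range_subschemeι]
    exact (IsHomeomorph.topologicalKrullDim_eq _ C.subschemeι.isEmbedding.toHomeomorph.isHomeomorph).le
  have h := euler_quotMod_tensor k (CurvLib.locFree_of_isInvertible hL) C
  rw [Nat.cast_one, one_mul] at h
  simp only [Pic13.curveDeg]
  rw [eulerCharLE_eq hd, eulerCharLE_eq hd, cd, h, Curv2.deg, Nat.cast_one, one_mul]

theorem cd_eq_zero_of_numZero {L : X.Modules} (hL : PicF.IsInvertible L) (h : Pic13.IsNumEquivZero k X L)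
    {C : X.IdealSheafData} (hi : IsIntegral C.subscheme)
    (hC : topologicalKrullDim (C.support : Set X) = 1) : cd k L C = 0 := by
  rw [← curveDeg_eq hL hC]
  refine h C.subscheme C.subschemeι hi ?_
  rw [← hC, ← C.range_subschemeι]
  exact IsHomeomorph.topologicalKrullDim_eq _ C.subschemeι.isEmbedding.toHomeomorph.isHomeomorph

theorem isAmple_of_cd [IsAlgClosed k] {L L' : X.Modules} (hL : PicF.IsInvertible L) (hL' : PicF.IsInvertible L')
    (h : ∀ C : X.IdealSheafData, IsIntegral C.subscheme → topologicalKrullDim (C.support : Set X) = 1 →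
      cd k L C = cd k L' C) (hamp : CohB1.IsAmple L) : CohB1.IsAmple L' :=
  Groth.Agent.S11371.result k X L L' hL hL' (fun C hi hC => sub_left_inj.mp (h C hi hC)) hamp

theorem intNum_eq_of_cd {D : ℕ} (hD : topologicalKrullDim X ≤ (D : ℕ)) :
    ∀ (r : ℕ) (M M' : Fin r → X.Modules), (∀ i, PicF.IsInvertible (M i)) → (∀ i, PicF.IsInvertible (M' i)) →
      (∀ i, ∀ C : X.IdealSheafData, IsIntegral C.subscheme → topologicalKrullDim (C.support : Set X) = 1 →
        cd k (M i) C = cd k (M' i) C) →
      ∀ F : X.Modules, Coh.IsCoh F → topologicalKrullDim (CohB1.support F) ≤ (r : ℕ) →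
        FGA.intNum k X D M F = FGA.intNum k X D M' F := by
  haveI := CurvLib.isNoetherian k (X := X)
  intro r
  induction r with
  | zero => intro M M' _ _ _ F _ _; rw [intNum_zero hD, intNum_zero hD]
  | succ r ih =>
    intro M M' hM hM' hnum F hF hd
    have hMt : ∀ i, PicF.IsInvertible (Fin.tail M i) := fun i => hM _
    have hMt' : ∀ i, PicF.IsInvertible (Fin.tail M' i) := fun i => hM' _
    rw [← Fin.cons_self_tail M, ← Fin.cons_self_tail M',
      Groth.Agent.S11371.first_eq hD (hM 0) (hM' 0) (fun C hi hC => sub_left_inj.mp (hnum 0 C hi hC))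
        r (Fin.tail M) hMt F hF hd,
      intNum_cons hD, intNum_cons hD]
    have h := Groth.Agent.S11371.tensor_invariant (k := k)
      (Φ := fun N => FGA.intNum k X D (Fin.tail M) N - FGA.intNum k X D (Fin.tail M') N)
      (fun A B e => congrArg₂ (· - ·) (intNum_congr hD _ e) (intNum_congr hD _ e))
      (fun S hS a b c => by
        beta_reduce
        rw [intNum_add hD _ hMt hS a b c, intNum_add hD _ hMt' hS a b c]
        ring)
      (d := r + 1) (fun N hN hlt => sub_eq_zero.mpr (ih _ _ hMt hMt' (fun i => hnum i.succ) N hN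
        (ENat.WithBot.lt_add_one_iff.mp (by exact_mod_cast hlt)))) (hM' 0) F hF hd
    beta_reduce at h
    omega

end IntFunLib

end
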