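import Groth.Agent.IntFunLib.Degree
import Groth.Agent.IntFunLib.Numerical
import Groth.Agent.S7749
import Mathlib.Algebra.BigOperators.Group.List.Basic

/-!
# Intersection numbers indexed by lists
-/

set_option autoImplicit false
set_option linter.style.haveILetI false
universe u

open CategoryTheory CategoryTheory.Limits AlgebraicGeometry TopologicalSpace Opposite
open HilbPolyLib DevissLib IntMultLib
open KFlatLib (pb)

noncomputable section

namespace IntFunLib

/-- The intersection number of a list of invertible modules against a module. -/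
def N (k : Type u) [Field k] {X : Scheme.{u}} [X.Over (Spec (CommRingCat.of k))] :
    List X.Modules → X.Modules → ℤ
  | [], F => Curv2.euler k X F
  | A :: l, F => N k l (CohB1.tensorMod A F) - N k l F

/-- The reduced structure sheaf of the closure of a point. -/
abbrev Fpt {X : Scheme.{u}} (ξ : X) : X.Modules := ClSub.quotMod (ptIdeal ξ)

variable {k : Type u} [Field k] {X : Scheme.{u}} [X.Over (Spec (CommRingCat.of k))]

theorem N_congr : ∀ (l : List X.Modules) {F G : X.Modules}, (F ≅ G) → N k l F = N k l G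
  | [], _, _, e => CurvLib.euler_congr e
  | A :: l, F, G, e => by rw [N, N, N_congr l e, N_congr l (congrRight A e)]

theorem N_perm {l l' : List X.Modules} (h : l.Perm l') : ∀ F, N k l F = N k l' F := by
  induction h with
  | nil => exact fun _ => rfl
  | cons a _ ih => exact fun F => by rw [N, N, ih, ih]
  | swap a b l =>
    intro F
    simp only [N]
    rw [N_congr l (leftComm a b F)]
    ring
  | trans _ _ ih ih' => exact fun F => (ih F).trans (ih' F)

variable [IsProper (X ↘ Spec (CommRingCat.of k))]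

theorem N_ofFn {D : ℕ} (hD : topologicalKrullDim X ≤ (D : ℕ)) :
    ∀ {r : ℕ} (M : Fin r → X.Modules) (F : X.Modules),
      N k (List.ofFn M) F = (-1) ^ r * FGA.intNum k X D M F
  | 0, M, F => by rw [List.ofFn_zero, N, intNum_zero hD, pow_zero, one_mul]
  | r + 1, M, F => by
    rw [List.ofFn_succ, N, N_ofFn hD, N_ofFn hD]
    conv_rhs => rw [← Fin.cons_self_tail M, intNum_cons hD]
    simp only [Fin.tail_def, pow_succ]
    ring

theorem N_eq {D : ℕ} (hD : topologicalKrullDim X ≤ (D : ℕ)) (l : List X.Modules) (F : X.Modules) :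
    N k l F = (-1) ^ l.length * FGA.intNum k X D l.get F := by
  conv_lhs => rw [← List.ofFn_get l]
  exact N_ofFn hD _ F

theorem inv_get {l : List X.Modules} (hl : ∀ A ∈ l, PicF.IsInvertible A) (i : Fin l.length) :
    PicF.IsInvertible (l.get i) :=
  hl _ (List.get_mem _ _)

theorem N_add {l : List X.Modules} (hl : ∀ A ∈ l, PicF.IsInvertible A) {S : ShortComplex X.Modules}
    (hS : S.ShortExact) (h₁ : Coh.IsCoh S.X₁) (h₂ : Coh.IsCoh S.X₂) (h₃ : Coh.IsCoh S.X₃) :
    N k l S.X₂ = N k l S.X₁ + N k l S.X₃ := by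
  obtain ⟨D, hD⟩ := exists_dim_lt k (X := X)
  rw [N_eq hD.le, N_eq hD.le, N_eq hD.le, intNum_add hD.le _ (inv_get hl) hS h₁ h₂ h₃]
  ring

theorem N_low {l : List X.Modules} (hl : ∀ A ∈ l, PicF.IsInvertible A) {F : X.Modules} (hF : Coh.IsCoh F)
    (h : topologicalKrullDim (CohB1.support F) < (l.length : ℕ)) : N k l F = 0 := by
  obtain ⟨D, hD⟩ := exists_dim_lt k (X := X)
  rw [N_eq hD.le, intNum_eq_zero hD.le _ (inv_get hl) F hF h, mul_zero]

theorem N_tensor {l : List X.Modules} (hl : ∀ A ∈ l, PicF.IsInvertible A) {A B : X.Modules}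
    (hA : PicF.IsInvertible A) (hB : PicF.IsInvertible B) {F : X.Modules} (hF : Coh.IsCoh F)
    (h : topologicalKrullDim (CohB1.support F) ≤ (l.length + 1 : ℕ)) :
    N k (CohB1.tensorMod A B :: l) F = N k (A :: l) F + N k (B :: l) F := by
  obtain ⟨D, hD⟩ := exists_dim_lt k (X := X)
  have e : ∀ M : X.Modules, N k (M :: l) F = (-1) ^ (l.length + 1) * FGA.intNum k X D (Fin.cons M l.get) F := by
    intro M
    rw [← N_ofFn hD.le, List.ofFn_succ]
    simp
  rw [e, e, e, intNum_tensor hD.le _ (inv_get hl) hA hB F hF h]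
  ring

theorem N_pow {l : List X.Modules} (hl : ∀ A ∈ l, PicF.IsInvertible A) {A : X.Modules}
    (hA : PicF.IsInvertible A) {F : X.Modules} (hF : Coh.IsCoh F)
    (h : topologicalKrullDim (CohB1.support F) ≤ (l.length + 1 : ℕ)) (n : ℕ) :
    N k (CohB1.tensorPow A n :: l) F = n * N k (A :: l) F := by
  induction n with
  | zero =>
    rw [N, N_congr l (show CohB1.tensorMod (CohB1.tensorPow A 0) F ≅ F from unitLeft F)]
    simp
  | succ n ih =>
    rw [CohB1.tensorPow, N_tensor hl (AmpleThLib.tensorPow_isInvertible hA n) hA hF h, ih]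
    push_cast
    ring

theorem dim_le_iff {t : WithBot ℕ∞} {d : ℕ} : t < ((d + 1 : ℕ) : WithBot ℕ∞) ↔ t ≤ (d : ℕ) := by
  rw [Nat.cast_add, Nat.cast_one]
  exact ENat.WithBot.lt_add_one_iff

/-- Decomposition along the points of top dimension. -/
theorem N_sum {l : List X.Modules} (hl : ∀ A ∈ l, PicF.IsInvertible A) {F : X.Modules} (hF : Coh.IsCoh F)
    (hne : (CohB1.support F).Nonempty) (hd : topologicalKrullDim (CohB1.support F) ≤ (l.length : ℕ)) :
    ∃ T : Finset X, (∀ ξ, ξ ∈ T ↔ ξ ∈ CohB1.support F ∧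
        topologicalKrullDim (closure ({ξ} : Set X)) = (l.length : WithBot ℕ∞)) ∧
      (∀ ξ ∈ T, len F ξ ≠ ⊤) ∧ N k l F = ∑ ξ ∈ T, (len F ξ).toNat • N k l (Fpt ξ) := by
  haveI := CurvLib.isNoetherian k (X := X)
  exact additive_eq_sum' (k := k) (N k l) (fun _ _ e => N_congr l e)
    (fun S hS a b c => N_add hl hS a b c) (fun M hM h => N_low hl hM h)
    (QCohLib.isClosed_support F hF.2) hne hd F hF le_rfl

/-- Nonnegativity propagates to coherent modules. -/
theorem N_nonneg {l : List X.Modules} (hl : ∀ A ∈ l, PicF.IsInvertible A) {F : X.Modules} (hF : Coh.IsCoh F)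
    (hd : topologicalKrullDim (CohB1.support F) ≤ (l.length : ℕ))
    (h : ∀ ξ ∈ CohB1.support F, topologicalKrullDim (closure ({ξ} : Set X)) = (l.length : WithBot ℕ∞) →
      0 ≤ N k l (Fpt ξ)) : 0 ≤ N k l F := by
  rcases (CohB1.support F).eq_empty_or_nonempty with he | hne
  · refine (N_low hl hF ?_).ge
    rw [he]
    haveI : IsEmpty (IrreducibleCloseds (∅ : Set X)) := ⟨fun c => by
      obtain ⟨x, -⟩ := c.isIrreducible.nonempty
      exact x.2⟩
    exact (Order.krullDim_eq_bot).trans_lt (WithBot.bot_lt_coe _)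
  obtain ⟨T, hT, -, hsum⟩ := N_sum (k := k) hl hF hne hd
  rw [hsum]
  exact Finset.sum_nonneg fun ξ hξ => nsmul_nonneg (h ξ ((hT ξ).mp hξ).1 ((hT ξ).mp hξ).2) _

theorem coeff_eq_N {d : ℕ} (L : X.Modules) (hL : PicF.IsInvertible L) (Z : X.IdealSheafData)
    (hd : topologicalKrullDim (Z.support : Set X) = d) (P : MvPolynomial (Fin d) ℚ)
    (hP : hilb k (fun _ : Fin d => L) (ClSub.quotMod Z) = pfun P) :
    P.coeff (oneExp d) = (N k (List.replicate d L) (ClSub.quotMod Z) : ℚ) := by
  haveI := CurvLib.isNoetherian k (X := X)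
  obtain ⟨D, hD⟩ := exists_dim_lt k (X := X)
  have hle := ((dim_mono (CurvLib.support_quotMod_subset Z)).trans hd.le).trans_lt
    (show ((d : ℕ) : WithBot ℕ∞) < ((d + 1 : ℕ) : WithBot ℕ∞) by exact_mod_cast Nat.lt_succ_self d)
  rw [coeff_eq_cubeSum (hilb_mem (fun _ => hL) (CurvLib.isCoh_quotMod Z) hle) P hP,
    cubeSum_hilb_eq_intNum hD.le, ← List.ofFn_const, N_ofFn hD.le]
  push_cast
  rfl

omit [X.Over (Spec (CommRingCat.of k))] [IsProper (X ↘ Spec (CommRingCat.of k))] in
/-- Integral closed subschemes are the reduced closures of their generic points. -/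
theorem eq_ptIdeal (Z : X.IdealSheafData) [IsIntegral Z.subscheme] :
    Z = ptIdeal (Z.subschemeι (genericPoint Z.subscheme)) := by
  conv_lhs => rw [← Z.ker_subschemeι, AlgSpRegLib.ker_eq_vanishingIdeal]
  refine congrArg Scheme.IdealSheafData.vanishingIdeal (Closeds.ext ?_)
  change closure (Set.range Z.subschemeι) = closure {Z.subschemeι (genericPoint Z.subscheme)}
  refine Set.Subset.antisymm (closure_minimal ?_ isClosed_closure) (closure_mono
    (Set.singleton_subset_iff.mpr ⟨_, rfl⟩))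
  rintro _ ⟨z, rfl⟩
  exact specializes_iff_mem_closure.mp (((genericPoint_spec _).specializes trivial).map Z.subschemeι.continuous)

variable (k) in
include k in
theorem coh_Fpt (ξ : X) : Coh.IsCoh (Fpt ξ) :=
  haveI := CurvLib.isNoetherian k (X := X)
  (generator ξ).1

variable (k) in
include k in
theorem supp_Fpt (ξ : X) : CohB1.support (Fpt ξ) = closure {ξ} :=
  haveI := CurvLib.isNoetherian k (X := X)
  (generator ξ).2.1

/-- Positivity of powers of an ample module. -/
theorem N_ample_pos {H : X.Modules} (hH : CohB1.IsAmple H) {d : ℕ} {ξ : X}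
    (hξ : topologicalKrullDim (closure ({ξ} : Set X)) = (d : WithBot ℕ∞)) :
    0 < N k (List.replicate d H) (Fpt ξ) := by
  haveI := CurvLib.isNoetherian k (X := X)
  haveI := isIntegral_ptIdeal ξ
  rcases Nat.eq_zero_or_pos d with rfl | hd
  · exact euler_pos_of_dim_zero (coh_Fpt k ξ) (by rw [supp_Fpt k]; exact hξ)
  have hsupp : topologicalKrullDim ((ptIdeal ξ).support : Set X) = (d : WithBot ℕ∞) := by
    rw [Scheme.IdealSheafData.coe_support_vanishingIdeal ⟨closure {ξ}, isClosed_closure⟩]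
    exact hξ
  obtain ⟨P, -, hP⟩ := exists_poly_lt (hilb_mem (k := k) (r := d) (L := fun _ => H) (fun _ => hH.1)
    (coh_Fpt k ξ) (d := d + 1) (by rw [supp_Fpt k, hξ]; exact_mod_cast Nat.lt_succ_self d))
  have := (Groth.Agent.S7749.result k X H hH.1).mp hH (ptIdeal ξ) d hd hsupp P fun n =>
    (hilb_eq _ _ n).symm.trans (congrFun hP n)
  change 0 < P.coeff (oneExp d) at this
  rw [coeff_eq_N H hH.1 _ hsupp P hP] at this
  exact_mod_cast this

variable {Y : Scheme.{u}} [Y.Over (Spec (CommRingCat.of k))] [IsProper (Y ↘ Spec (CommRingCat.of k))]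
  {g : Y ⟶ X} (hg : g ≫ (X ↘ Spec (CommRingCat.of k)) = Y ↘ Spec (CommRingCat.of k))

include hg in
theorem N_push {l : List X.Modules} (hl : ∀ A ∈ l, PicF.IsInvertible A) {F : Y.Modules} (hF : Coh.IsCoh F)
    (hd : topologicalKrullDim (CohB1.support F) ≤ (l.length : ℕ)) :
    N k (l.map (pb g)) F = N k l ((Coh.push g).obj F) := by
  obtain ⟨D, hD⟩ := exists_dim_lt k (X := X)
  obtain ⟨D', hD'⟩ := exists_dim_lt k (X := Y)
  haveI : HasInjectiveResolutions Y.Modules := inferInstance
  have h := intNum_push hg hD.le hD'.le l.get (inv_get hl) F hF (dim_le_iff.mpr hd)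
  rw [N_eq hD.le, ← h, ← N_ofFn hD'.le]
  exact congrArg (fun m => N k m F) ((congrArg (List.map (pb g)) (List.ofFn_get l)).symm.trans List.map_ofFn)

omit [IsProper (X ↘ Spec (CommRingCat.of k))] in
include hg in
theorem isProper_g [IsSeparated (X ↘ Spec (CommRingCat.of k))] : IsProper g := by
  haveI : IsProper (g ≫ (X ↘ Spec (CommRingCat.of k))) := hg ▸ inferInstance
  exact IsProper.of_comp g (X ↘ Spec (CommRingCat.of k))

include hg in
theorem support_push_closure (ξ : Y) :
    CohB1.support ((Coh.push g).obj (Fpt ξ)) ⊆ closure {g ξ} := by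
  haveI := isProper_g hg
  intro x hx
  by_contra hn
  refine hx ((QCohLib.subsingleton_stalk_iff _ x).mpr fun W hxW t => ?_)
  refine ⟨W ⊓ ⟨(closure {g ξ})ᶜ, isClosed_closure.isOpen_compl⟩, inf_le_left, ⟨hxW, hn⟩, ?_⟩
  refine TopCat.Presheaf.section_ext ((QCohLib.toAbF Y).obj (Fpt ξ) : TopCat.Sheaf AddCommGrpCat _)
    (g ⁻¹ᵁ (W ⊓ ⟨(closure {g ξ})ᶜ, isClosed_closure.isOpen_compl⟩)) _ _ fun q hq => ?_
  have : Subsingleton ((TopCat.Sheaf.presheaf ((QCohLib.toAbF Y).obj (Fpt ξ))).stalk q) := by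
    by_contra h
    have hq' : q ∈ closure ({ξ} : Set Y) := (supp_Fpt k ξ).le h
    exact hq.2 (map_mem_closure g.continuous hq' (fun z hz => by rw [Set.mem_singleton_iff.mp hz]; rfl))
  exact Subsingleton.elim _ _

include hg in
theorem dim_closure_map_le (ξ : Y) :
    topologicalKrullDim (closure ({g ξ} : Set X)) ≤ topologicalKrullDim (closure ({ξ} : Set Y)) := by
  haveI := isProper_g hg
  rw [FibDimLib.topologicalKrullDim_closure_eq_add (X ↘ Spec (CommRingCat.of k)) g ξ]
  exact le_add_of_nonneg_right (nonneg_dim ⟨_, subset_closure rfl⟩)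

end IntFunLib

end
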