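import Groth.Agent.IntFunLib.NefApps
import Groth.Agent.AVAmpleLib.CurveThrough
import Groth.Agent.AmpleDevLib.Pull
import Groth.Agent.S1611

/-!
# Strictly nef and globally generated modules are ample
-/

set_option autoImplicit false
set_option linter.style.haveILetI false
set_option maxHeartbeats 800000
universe u

open CategoryTheory CategoryTheory.Limits AlgebraicGeometry TopologicalSpace Opposite
open HilbPolyLib DevissLib IntMultLib
open KFlatLib (pb puSec)
open TwistLib (genSet)

noncomputable section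

namespace IntFunLib

variable {k : Type u} [Field k] {X : Scheme.{u}} [X.Over (Spec (CommRingCat.of k))]
  [IsProper (X ↘ Spec (CommRingCat.of k))]

/-- Positivity propagates to coherent modules. -/
theorem N_pos {l : List X.Modules} (hl : ∀ A ∈ l, PicF.IsInvertible A) {F : X.Modules} (hF : Coh.IsCoh F)
    (hd : topologicalKrullDim (CohB1.support F) ≤ (l.length : ℕ)) {ξ₀ : X} (hξ₀ : ξ₀ ∈ CohB1.support F)
    (hξd : topologicalKrullDim (closure ({ξ₀} : Set X)) = (l.length : WithBot ℕ∞))
    (h : ∀ ξ ∈ CohB1.support F, topologicalKrullDim (closure ({ξ} : Set X)) = (l.length : WithBot ℕ∞) →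
      0 < N k l (Fpt ξ)) : 0 < N k l F := by
  obtain ⟨T, hT, hfin, hsum⟩ := N_sum (k := k) hl hF ⟨ξ₀, hξ₀⟩ hd
  rw [hsum]
  refine Finset.sum_pos (fun ξ hξ => ?_) ⟨ξ₀, (hT ξ₀).mpr ⟨hξ₀, hξd⟩⟩
  refine nsmul_pos (h ξ ((hT ξ).mp hξ).1 ((hT ξ).mp hξ).2) fun h0 => ?_
  rcases ENat.toNat_eq_zero.mp h0 with h0 | h0
  · exact ((hT ξ).mp hξ).1 (Module.length_eq_zero_iff.mp h0)
  · exact hfin ξ hξ h0

omit [X.Over (Spec (CommRingCat.of k))] [IsProper (X ↘ Spec (CommRingCat.of k))] in
theorem dim_closure_image {Y : Scheme.{u}} (g : Y ⟶ X) [IsClosedImmersion g] (η : Y) :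
    topologicalKrullDim (closure ({g η} : Set X)) = topologicalKrullDim (closure ({η} : Set Y)) := by
  rw [← Set.image_singleton, g.isClosedEmbedding.closure_image_eq]
  exact (IsHomeomorph.topologicalKrullDim_eq _
    (g.isEmbedding.homeomorphImage (closure {η})).isHomeomorph).symm

/-- Positivity on points of one dimension passes to closed subschemes. -/
theorem pos_pullback {Y : Scheme.{u}} [Y.Over (Spec (CommRingCat.of k))] [IsProper (Y ↘ Spec (CommRingCat.of k))]
    {g : Y ⟶ X} [IsClosedImmersion g] (hg : g ≫ (X ↘ Spec (CommRingCat.of k)) = Y ↘ Spec (CommRingCat.of k))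
    {L : X.Modules} (hL : PicF.IsInvertible L) {e : ℕ}
    (h : ∀ ξ : X, topologicalKrullDim (closure ({ξ} : Set X)) = (e : WithBot ℕ∞) →
      0 < N k (List.replicate e L) (Fpt ξ))
    {η : Y} (hη : topologicalKrullDim (closure ({η} : Set Y)) = (e : WithBot ℕ∞)) :
    0 < N k (List.replicate e (pb g L)) (Fpt η) := by
  haveI := CurvLib.isNoetherian k (X := X)
  have hl : ∀ A ∈ List.replicate e L, PicF.IsInvertible A := fun A hA => by
    rw [List.eq_of_mem_replicate hA]; exact hL
  have hlen : (List.replicate e L).length = e := List.length_replicate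
  rw [show List.replicate e (pb g L) = List.map (pb g) (List.replicate e L) from List.map_replicate.symm,
    N_push hg hl (coh_Fpt k η) (by rw [supp_Fpt k, hη, hlen])]
  have hc : Coh.IsCoh ((Coh.push g).obj (Fpt η)) := FormalCohLib.isCoh_push_proper g (coh_Fpt k η)
  refine N_pos hl hc (((dim_mono (support_push_closure hg η)).trans (dim_closure_map_le hg η)).trans
    (by rw [hη, hlen])) (mem_support_push hg η) ((dim_closure_image g η).trans (by rw [hη, hlen])) ?_
  intro ξ _ hξ
  exact h ξ (by rw [hξ, hlen])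

/-- The key step on an integral scheme. -/
theorem N_gen_pos [IsIntegral X] {d : ℕ} (hd : 0 < d)
    (hX : topologicalKrullDim X = ((d + 1 : ℕ) : WithBot ℕ∞)) {M : X.Modules} (hM : PicF.IsInvertible M)
    (σ : Γ(M, ⊤)) (hσ : genericPoint X ∈ genSet hM σ)
    (hcurve : ∀ ξ : X, topologicalKrullDim (closure ({ξ} : Set X)) = ((1 : ℕ) : WithBot ℕ∞) →
      0 < N k [M] (Fpt ξ))
    (htop : ∀ ξ : X, topologicalKrullDim (closure ({ξ} : Set X)) = (d : WithBot ℕ∞) →
      0 < N k (List.replicate d M) (Fpt ξ)) :
    0 < N k (List.replicate (d + 1) M) (Coh.structureModule X) := by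
  haveI := CurvLib.isNoetherian k (X := X)
  by_cases htriv : genSet hM σ = ⊤
  · exfalso
    haveI : IsIso (QCohLib.unitHom M σ) := AmpleLib.isIso_unitHom σ (TwistLib.genOn_of_genAt fun x hx => by
      have hx' : x ∈ genSet hM σ := by rw [htriv]; trivial
      exact hx')
    obtain ⟨e, -, he⟩ := IsClosed.exists_closed_singleton (isClosed_univ (X := X)) ⟨genericPoint X, trivial⟩
    have hne : ({e} : Set X) ≠ Set.univ := fun h => by
      have hg : genericPoint X ∈ ({e} : Set X) := by rw [h]; trivial
      have h0 : topologicalKrullDim (closure ({genericPoint X} : Set X)) ≤ 0 := by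
        rw [Set.mem_singleton_iff.mp hg, he.closure_eq]
        exact topologicalKrullDim_zero_of_discreteTopology _
      rw [dim_closure_generic, hX] at h0
      have : d + 1 ≤ 0 := by exact_mod_cast h0
      omega
    obtain ⟨y, -, -, hy⟩ := AVAmpleLib.exists_curve_not_mem (X ↘ Spec (CommRingCat.of k)) e he
      (IsClosed.closure_eq he ▸ isClosed_closure : IsClosed ({e} : Set X)) rfl hne
    have h1 := hcurve y (by rw [hy, Nat.cast_one])
    rw [N, N, N, CurvLib.euler_congr (congrLeft (asIso (QCohLib.unitHom M σ)).symm (Fpt y) ≪≫ unitLeft (Fpt y))] at h1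
    omega
  obtain ⟨x, hx⟩ : ∃ x : X, x ∉ genSet hM σ := by
    by_contra h
    push Not at h
    exact htriv (eq_top_iff.mpr fun x _ => h x)
  have hO := DevissLib.isCoh_structureModule X
  have hMc : Coh.IsCoh M := CurvLib.isCoh_of_isInvertible hM
  set φ := QCohLib.unitHom M σ with hφdef
  have hφ : φ ≠ 0 := fun h0 => by
    have hσ0 : σ = 0 := by
      have h2 := congr_arg (fun ψ : Coh.structureModule X ⟶ M => ψ.app ⊤ (1 : Γ(X, ⊤))) h0
      change (QCohLib.unitHom M σ).app ⊤ (1 : Γ(X, ⊤)) = 0 at h2
      rwa [QCohLib.unitHom_app, one_smul,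
        show M.presheaf.map (homOfLE (le_top : ⊤ ≤ (⊤ : X.Opens))).op σ = σ from QCohLib.toSections_top M σ] at h2
    have hb : AmpleLib.GenAt M σ (show genericPoint X ∈ (⊤ : X.Opens) from trivial) := hσ
    subst hσ0
    refine one_ne_zero (hb.1 (a₁ := (1 : X.presheaf.stalk (genericPoint X))) (a₂ := 0) ?_)
    simp
  haveI : Mono φ := CurvLib.mono_of_ne_zero CurvLib.isInvertible_structureModule hM hφ
  let S : ShortComplex X.Modules := ShortComplex.mk φ (cokernel.π φ) (cokernel.condition φ)
  have hS : S.ShortExact :=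
    { exact := ShortComplex.exact_cokernel φ, mono_f := inferInstanceAs (Mono φ)
      epi_g := inferInstanceAs (Epi (cokernel.π φ)) }
  have hC : Coh.IsCoh (cokernel φ) := QCohLib.isCoh_cokernel φ hO.1 hMc
  have hl : ∀ A ∈ List.replicate d M, PicF.IsInvertible A := fun A hA => by
    rw [List.eq_of_mem_replicate hA]; exact hM
  have hlen : (List.replicate d M).length = d := List.length_replicate
  have h1 := N_add (k := k) hl hS hO hMc hC
  have hstep : N k (List.replicate (d + 1) M) (Coh.structureModule X) = N k (List.replicate d M) (cokernel φ) := by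
    rw [List.replicate_succ, N, N_congr _ (show CohB1.tensorMod M (Coh.structureModule X) ≅ M from
      swapIso _ _ ≪≫ unitLeft _)]
    change N k _ S.X₂ - N k _ S.X₁ = N k _ S.X₃
    rw [h1]; ring
  rw [hstep]
  have hsupp : ∀ y, y ∉ genSet hM σ → y ∈ CohB1.support (cokernel φ) := by
    intro y hy hsub
    refine hy (IntMultLib.genAt_of_unitHom_surjective hM σ fun b => ?_)
    have hex := (ShortComplex.ShortExact.moduleCat_exact_iff_function_exact _).1
      (hS.map_of_exact (DerSch.stalkFunctor X y)).exact b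
    exact hex.mp (@Subsingleton.elim _ hsub _ _)
  have hcl := QCohLib.isClosed_support _ hC.2
  have hgenη : genericPoint X ∉ CohB1.support (cokernel φ) :=
    CurvLib.generic_notMem_support_cokernel CurvLib.isInvertible_structureModule hM hφ
  have hlt : topologicalKrullDim (CohB1.support (cokernel φ)) ≤ (d : ℕ) := by
    refine dim_le_iff.mp (dim_lt_of_notMem hcl (fun z _ => ?_) hgenη (Y := Set.univ) (Set.subset_univ _) ?_)
    · rw [(genericPoint_spec X).def]; exact trivial
    · exact ((topologicalKrullDim_subspace_le _ _).trans hX.le).trans_lt (by exact_mod_cast Nat.lt_succ_self (d + 1))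
  obtain ⟨η, -, hη, hηd, -⟩ := HilbPolyLib.exists_top_component hcl (d := d)
    (le_antisymm hlt (IntMultLib.le_dim_zeroLocus (k := k) hX hM σ hx hsupp))
  exact N_pos hl hC (by rw [hlen]; exact hlt) hη (by rw [hηd, hlen]) fun ξ _ hξ => htop ξ (by rw [hξ, hlen])

/-- Globally generated modules of positive degree on all curves have positive self intersections. -/
theorem N_gg_pos {M : X.Modules} (hM : PicF.IsInvertible M) (hgg : Curv2.IsGloballyGenerated M)
    (h : ∀ ξ : X, topologicalKrullDim (closure ({ξ} : Set X)) = ((1 : ℕ) : WithBot ℕ∞) → 0 < N k [M] (Fpt ξ)) :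
    ∀ d : ℕ, 0 < d → ∀ ξ : X, topologicalKrullDim (closure ({ξ} : Set X)) = (d : WithBot ℕ∞) →
      0 < N k (List.replicate d M) (Fpt ξ) := by
  intro d
  induction d with
  | zero => intro h0; omega
  | succ d IH =>
    intro _ ξ hξ
    rcases Nat.eq_zero_or_pos d with rfl | hd
    · exact h ξ hξ
    haveI := CurvLib.isNoetherian k (X := X)
    haveI := isIntegral_ptIdeal ξ
    let W := (ptIdeal ξ).subscheme
    let g : W ⟶ X := (ptIdeal ξ).subschemeι
    letI : W.Over (Spec (CommRingCat.of k)) := ⟨g ≫ (X ↘ Spec (CommRingCat.of k))⟩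
    haveI : IsProper (W ↘ Spec (CommRingCat.of k)) :=
      inferInstanceAs (IsProper (g ≫ (X ↘ Spec (CommRingCat.of k))))
    have hW : topologicalKrullDim W = ((d + 1 : ℕ) : WithBot ℕ∞) := by
      rw [← hξ]
      exact (g.isEmbedding.toHomeomorph.trans
        (Homeomorph.setCongr (range_ptIdeal ξ))).isHomeomorph.topologicalKrullDim_eq
    have hrfl : g ≫ (X ↘ Spec (CommRingCat.of k)) = W ↘ Spec (CommRingCat.of k) := rfl
    obtain ⟨σ, hσ⟩ := Groth.Agent.S1611.exists_genAt_of_gg hM hgg (g (genericPoint W))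
    have h0 := N_gen_pos (k := k) (X := W) hd hW (AmpleDevLib.isInvertible_pb g hM)
      (puSec g σ : Γ(pb g M, ⊤))
      (by rw [AmpleDevLib.genSet_puSec g hM σ]; exact hσ)
      (fun η hη => pos_pullback hrfl hM (e := 1) h hη)
      (fun η hη => pos_pullback hrfl hM (IH hd) hη)
    have hl : ∀ A ∈ List.replicate (d + 1) M, PicF.IsInvertible A := fun A hA => by
      rw [List.eq_of_mem_replicate hA]; exact hM
    have h1 := N_push (k := k) hrfl hl (DevissLib.isCoh_structureModule W)
      ((topologicalKrullDim_subspace_le _ _).trans (by rw [hW, List.length_replicate]))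
    rw [List.map_replicate] at h1
    rw [h1] at h0
    exact h0

end IntFunLib

end
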