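import Groth.Agent.IntFunLib.Push
import Groth.Agent.S1525

/-!
# Functoriality of intersection numbers
-/

set_option autoImplicit false
set_option linter.style.haveILetI false
universe u

open CategoryTheory CategoryTheory.Limits AlgebraicGeometry TopologicalSpace Opposite
open HilbPolyLib DevissLib

noncomputable section

namespace IntFunLib

theorem dim_lt_of_points {X : Scheme.{u}} {S : Set X} (hS : IsClosed S) {r : ℕ}
    (h : ∀ y ∈ S, topologicalKrullDim (closure ({y} : Set X)) < (r : ℕ)) :
    topologicalKrullDim S < (r : ℕ) := by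
  rcases S.eq_empty_or_nonempty with rfl | ⟨y, hy⟩
  · haveI : IsEmpty (IrreducibleCloseds (∅ : Set X)) := ⟨fun c => by
      obtain ⟨x, -⟩ := c.isIrreducible.nonempty
      exact x.2⟩
    exact (Order.krullDim_eq_bot).trans_lt (WithBot.bot_lt_coe _)
  cases r with
  | zero => exact absurd (h y hy) (not_lt.mpr (nonneg_dim ⟨y, subset_closure rfl⟩))
  | succ m =>
    haveI : QuasiSober S := hS.isClosedEmbedding_subtypeVal.quasiSober
    refine lt_of_le_of_lt (FibDimLib.topologicalKrullDim_le_of_generic (c := ((m : ℕ) : WithBot ℕ∞))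
      fun z _ => ?_) (by exact_mod_cast Nat.lt_succ_self m)
    refine le_trans ?_ (ENat.WithBot.lt_add_one_iff.mp (h z.1 z.2))
    exact ((Topology.IsInducing.subtypeVal.comp Topology.IsInducing.subtypeVal).codRestrict
      (s := closure ({z.1} : Set X)) fun w => (closure_subtype.mp w.2 :) |> fun hw => by
        simpa using hw).topologicalKrullDim_le

variable {k : Type u} [Field k] {X Y : Scheme.{u}} [X.Over (Spec (CommRingCat.of k))]
  [Y.Over (Spec (CommRingCat.of k))] [IsProper (X ↘ Spec (CommRingCat.of k))]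
  [IsProper (Y ↘ Spec (CommRingCat.of k))]
  {f : Y ⟶ X} (hf : f ≫ (X ↘ Spec (CommRingCat.of k)) = Y ↘ Spec (CommRingCat.of k))

include hf in
theorem isProper_of_over : IsProper f := by
  haveI : IsProper (f ≫ (X ↘ Spec (CommRingCat.of k))) := hf ▸ inferInstance
  exact IsProper.of_comp f (X ↘ Spec (CommRingCat.of k))

variable [HasInjectiveResolutions Y.Modules]

include hf in
theorem euler_twist_sum {T : X.Modules} (hT : PicF.IsInvertible T) {F : Y.Modules} (hF : Coh.IsCoh F)
    {N : ℕ} (hN : ∀ i, N ≤ i → IsZero ((Coh.Rpush f i).obj F)) :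
    Curv2.euler k Y (CohB1.tensorMod ((Scheme.Modules.pullback f).obj T) F) =
      ∑ i ∈ Finset.range N, (-1 : ℤ) ^ i * Curv2.euler k X (CohB1.tensorMod T ((Coh.Rpush f i).obj F)) := by
  have hE : FlatMod.IsFinLocFree T :=
    CurveVBLib.isFinLocFree_of_rank (CurvLib.locFree_of_isInvertible hT)
  refine (Groth.Agent.S1525.result k X Y f hf _
    (isCoh_tensor (AmpleDevLib.isInvertible_pb f hT) hF)).trans ?_
  rw [finsum_congr fun i => congrArg ((-1 : ℤ) ^ i * ·)
    (CurvLib.euler_congr (k := k) (show (Coh.Rpush f i).obj (CohB1.tensorMod ((Scheme.Modules.pullback f).obj T) F) ≅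
      CohB1.tensorMod T ((Coh.Rpush f i).obj F) from (ProjFormLib.nonempty_projection_formula f T hE F i).some.symm))]
  refine finsum_eq_sum_of_support_subset _ fun i hi => ?_
  rw [Finset.coe_range, Set.mem_Iio]
  by_contra h
  exact hi (show (-1 : ℤ) ^ i * _ = 0 by
    rw [euler_zero (k := k) (isZero_of_support_empty
      ((support_tensor hT _).trans (support_of_isZero (hN i (not_lt.mp h))))), mul_zero])

include hf in
/-- Intersection numbers along a morphism see only the direct image. -/
theorem intNum_push {d d' : ℕ} (hd : topologicalKrullDim X ≤ (d : ℕ)) (hd' : topologicalKrullDim Y ≤ (d' : ℕ))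
    {r : ℕ} (M : Fin r → X.Modules) (hM : ∀ i, PicF.IsInvertible (M i)) (F : Y.Modules) (hF : Coh.IsCoh F)
    (hr : topologicalKrullDim (CohB1.support F) < (r + 1 : ℕ)) :
    FGA.intNum k Y d' (fun i => (Scheme.Modules.pullback f).obj (M i)) F =
      FGA.intNum k X d M ((Coh.push f).obj F) := by
  haveI := isProper_of_over hf
  haveI := CurvLib.isNoetherian k (X := X)
  obtain ⟨N, hN, -⟩ := EulerRpushLib.euler_eq_sum_rpush f hf F hF
  have hterm : ∀ I : Finset (Fin r),
      FGA.eulerCharLE k Y (CohB1.tensorMod (FGA.tensorList ((I.sort (· ≤ ·)).map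
        fun i => (Scheme.Modules.pullback f).obj (M i))) F) d' =
      ∑ i ∈ Finset.range (N + 1), (-1 : ℤ) ^ i * FGA.eulerCharLE k X (CohB1.tensorMod (FGA.tensorList
        ((I.sort (· ≤ ·)).map M)) ((Coh.Rpush f i).obj F)) d := fun I => by
    obtain ⟨e⟩ := IntMultLib.nonempty_pullback_tensorList f ((I.sort (· ≤ ·)).map M)
    rw [List.map_map] at e
    simp only [eulerCharLE_eq hd]
    rw [eulerCharLE_eq hd']
    refine (CurvLib.euler_congr (congrLeft e.symm F)).trans (euler_twist_sum hf ?_ hF fun i hi => hN i (by omega))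
    exact isInvertible_tensorList _ fun T hT => by
      obtain ⟨j, -, rfl⟩ := List.mem_map.mp hT
      exact hM j
  have hsum : FGA.intNum k Y d' (fun i => (Scheme.Modules.pullback f).obj (M i)) F =
      ∑ i ∈ Finset.range (N + 1), (-1 : ℤ) ^ i * FGA.intNum k X d M ((Coh.Rpush f i).obj F) := by
    simp only [FGA.intNum, hterm, Finset.mul_sum]
    rw [Finset.sum_comm]
    exact Finset.sum_congr rfl fun i _ => Finset.sum_congr rfl fun I _ => mul_left_comm _ _ _
  rw [hsum, Finset.sum_range_succ', Finset.sum_eq_zero fun q _ => ?_]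
  · rw [zero_add, pow_zero, one_mul]
    exact intNum_congr hd M ((Scheme.Modules.pushforward f).rightDerivedZeroIsoSelf.app F)
  have hc : Coh.IsCoh ((Coh.Rpush f (q + 1)).obj F) := Groth.Agent.S0036.result f F hF (q + 1)
  rw [intNum_eq_zero hd M hM _ hc (dim_lt_of_points (QCohLib.isClosed_support _ hc.2) fun y hy => ?_), mul_zero]
  exact dim_closure_lt_of_infinite k (QCohLib.isClosed_support F hF.2)
    (fun hfin => notMem_support_rpush_of_finite f hF y hfin q hy) hr

end IntFunLib

end
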