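import Groth.Agent.EulerRpushLib.Main
import Groth.Agent.DevissLib.AnnIdeal
import Groth.Agent.DevissLib.KilledImm
import Groth.Agent.RpushLib.Comp
import Groth.Agent.FibDimLib.ClosureDim
import Groth.Agent.HilbPolyLib.IntNum
import Groth.Agent.IntMultLib.Positive
import Groth.Agent.ProjFormLib.Proj
import Mathlib.AlgebraicGeometry.ZariskisMainTheorem

/-!
# Where higher direct images are supported
-/

set_option autoImplicit false
set_option linter.style.haveILetI false
universe u

open CategoryTheory CategoryTheory.Limits AlgebraicGeometry TopologicalSpace Opposite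

noncomputable section

namespace IntFunLib

/-- Higher direct images along a proper map vanish where the support has finite fibres. -/
theorem notMem_support_rpush_of_finite {X Y : Scheme.{u}} (f : Y ⟶ X) [IsProper f]
    [IsLocallyNoetherian X] [HasInjectiveResolutions Y.Modules] {F : Y.Modules} (hF : Coh.IsCoh F)
    (y : X) (hy : (CohB1.support F ∩ f ⁻¹' {y}).Finite) (q : ℕ) :
    y ∉ CohB1.support ((Coh.Rpush f (q + 1)).obj F) := by
  haveI : Coh.IsQCoh F := hF.1
  haveI : IsLocallyNoetherian Y := LocallyOfFiniteType.isLocallyNoetherian f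
  let I := DevissLib.annIdeal F hF.2
  let i := I.subschemeι
  obtain ⟨G, hG, ⟨e⟩⟩ := DevissLib.exists_coh_of_killed i hF
    (by rw [Scheme.IdealSheafData.ker_subschemeι]; exact DevissLib.killed_annIdeal F hF.2)
  haveI : Coh.IsQCoh G := hG.1
  haveI : IsLocallyNoetherian I.subscheme := LocallyOfFiniteType.isLocallyNoetherian i
  obtain ⟨e'⟩ := RpushLib.nonempty_rpush_push_iso i f G (q + 1)
  rw [← DevissLib.support_iso ((Coh.Rpush f (q + 1)).mapIso e), DevissLib.support_iso e']
  have hfin : ((i ≫ f) ⁻¹' {y}).Finite := by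
    have h1 : (i ≫ f) ⁻¹' {y} = i ⁻¹' (CohB1.support F ∩ f ⁻¹' {y}) := by
      ext z
      have hz : i z ∈ CohB1.support F := by
        rw [← DevissLib.support_annIdeal F hF.2, ← I.range_subschemeι]
        exact ⟨z, rfl⟩
      exact ⟨fun h => ⟨hz, h⟩, fun h => h.2⟩
    rw [h1]
    exact hy.preimage i.isClosedEmbedding.injective.injOn
  obtain ⟨V, hyV, hV⟩ := exists_isFinite_morphismRestrict_of_finite_preimage_singleton (i ≫ f) y hfin
  refine EulerRpushLib.notMem_support_rpush (i ≫ f) G (q + 1) y V hyV fun W hW hWV => ?_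
  have hP : IsAffineOpen ((i ≫ f) ⁻¹ᵁ W) := by
    obtain ⟨W', rfl⟩ : ∃ W' : V.toScheme.Opens, V.ι ''ᵁ W' = W :=
      ⟨V.ι ⁻¹ᵁ W, by rw [Scheme.Hom.image_preimage_eq_opensRange_inf, Scheme.Opens.opensRange_ι, inf_eq_right]; exact hWV⟩
    have hW' : IsAffineOpen W' := V.ι.isAffineOpen_iff_of_isOpenImmersion.mp hW
    haveI : IsFinite ((i ≫ f) ∣_ V) := hV
    have := (hW'.preimage ((i ≫ f) ∣_ V)).image_of_isOpenImmersion ((i ≫ f) ⁻¹ᵁ V).ι
    rwa [image_morphismRestrict_preimage] at this
  haveI : IsAffine ((i ≫ f) ⁻¹ᵁ W : Scheme.{u}) := hP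
  exact QCohLib.subsingleton_HH_affine _ (q + 1) q.succ_pos

theorem nonneg_dim {α : Type u} [TopologicalSpace α] {S : Set α} (hS : S.Nonempty) :
    (0 : WithBot ℕ∞) ≤ topologicalKrullDim S := by
  obtain ⟨x, hx⟩ := hS
  haveI : Nonempty (IrreducibleCloseds S) :=
    ⟨⟨closure {⟨x, hx⟩}, isIrreducible_singleton.closure, isClosed_closure⟩⟩
  exact Order.krullDim_nonneg

theorem dim_mono {α : Type u} [TopologicalSpace α] {S T : Set α} (h : S ⊆ T) :
    topologicalKrullDim S ≤ topologicalKrullDim T :=
  (Topology.IsEmbedding.inclusion h).isInducing.topologicalKrullDim_le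

theorem lt_of_add_lt {a b : WithBot ℕ∞} {d : ℕ} (h : a + b < ((d + 1 : ℕ) : WithBot ℕ∞)) (hb : b ≠ 0)
    (hb0 : 0 ≤ b) : a < (d : ℕ) := by
  induction a using WithBot.recBotCoe with
  | bot => exact WithBot.bot_lt_coe _
  | coe a =>
    induction b using WithBot.recBotCoe with
    | bot => exact absurd hb0 (by simp)
    | coe b =>
      induction a using ENat.recTopCoe with
      | top => exact absurd (WithBot.coe_lt_coe.mp h) (by simp)
      | coe a =>
        induction b using ENat.recTopCoe with
        | top => exact absurd (WithBot.coe_lt_coe.mp h) (by simp)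
        | coe b =>
          have h' : a + b < d + 1 := by exact_mod_cast h
          have hb' : b ≠ 0 := fun h0 => hb (by subst h0; rfl)
          exact_mod_cast (show a < d by omega)

variable {k : Type u} [Field k] {X Y : Scheme.{u}} [X.Over (Spec (CommRingCat.of k))]
  [Y.Over (Spec (CommRingCat.of k))] [IsProper (X ↘ Spec (CommRingCat.of k))]
  [IsProper (Y ↘ Spec (CommRingCat.of k))]
  {f : Y ⟶ X} (hf : f ≫ (X ↘ Spec (CommRingCat.of k)) = Y ↘ Spec (CommRingCat.of k))

variable (k) in
include k in
omit [IsProper (Y ↘ Spec (CommRingCat.of k))] [Y.Over (Spec (CommRingCat.of k))] in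
/-- Closures of points below infinite fibres have smaller dimension. -/
theorem dim_closure_lt_of_infinite [LocallyOfFiniteType f] [QuasiCompact f] {S : Set Y} (hS : IsClosed S) {y : X}
    (hy : ¬ (S ∩ f ⁻¹' {y}).Finite) {d : ℕ} (hd : topologicalKrullDim S < (d + 1 : ℕ)) :
    topologicalKrullDim (closure ({y} : Set X)) < (d : ℕ) := by
  have key : ∀ x : Y, topologicalKrullDim (closure ({x} : Set Y)) =
      topologicalKrullDim (closure ({f x} : Set X)) + UOpenLib.fibreClosureDim f x :=
    FibDimLib.topologicalKrullDim_closure_eq_add (X ↘ Spec (CommRingCat.of k)) f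
  obtain ⟨x, hxS, hxy, hx⟩ : ∃ x ∈ S, f x = y ∧ UOpenLib.fibreClosureDim f x ≠ 0 := by
    by_contra h
    push Not at h
    refine hy ?_
    have heq : ∀ x ∈ S, f x = y →
        topologicalKrullDim (closure ({x} : Set Y)) = topologicalKrullDim (closure ({y} : Set X)) :=
      fun x hx hxy => by rw [key x, h x hx hxy, add_zero, hxy]
    haveI : NoetherianSpace X :=
      haveI := CurvLib.isNoetherian k (X := X)
      inferInstance
    haveI : IsLocallyNoetherian X := (CurvLib.isNoetherian k (X := X)).toIsLocallyNoetherian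
    haveI : IsLocallyNoetherian Y := LocallyOfFiniteType.isLocallyNoetherian f
    haveI : CompactSpace Y := QuasiCompact.compactSpace_of_compactSpace f
    haveI : AlgebraicGeometry.IsNoetherian Y := {}
    let C : Set Y := S ∩ f ⁻¹' closure {y}
    have hC : IsClosed C := hS.inter (isClosed_closure.preimage f.continuous)
    obtain ⟨T, hTf, hTc, hTi, hTeq⟩ := NoetherianSpace.exists_finite_set_isClosed_irreducible hC
    refine ((hTf.dependent_image fun c hc => (hTi c hc).genericPoint).subset fun x hx => ?_)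
    have hxC : x ∈ C := ⟨hx.1, subset_closure hx.2⟩
    rw [hTeq] at hxC
    obtain ⟨c, hc, hxc⟩ := hxC
    let g := (hTi c hc).genericPoint
    have hg : closure {g} = c := by
      rw [(hTi c hc).isGenericPoint_genericPoint_closure.def, (hTc c hc).closure_eq]
    have hgC : g ∈ C := hTeq ▸ ⟨c, hc, hg ▸ subset_closure rfl⟩
    have hsp : g ⤳ x := specializes_iff_mem_closure.mpr (hg.symm ▸ hxc)
    have hgy : f g = y := ((hx.2 ▸ hsp.map f.continuous : f g ⤳ y).antisymm
      (specializes_iff_mem_closure.mpr hgC.2)).eq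
    refine ⟨c, hc, ?_⟩
    change g = x
    by_contra hne
    have hdec : ∀ m : ℕ, topologicalKrullDim (closure ({y} : Set X)) < (m + 1 : ℕ) →
        topologicalKrullDim (closure ({y} : Set X)) < (m : ℕ) := fun m hm => by
      rw [← heq x hx.1 hx.2]
      refine HilbPolyLib.dim_lt_of_notMem isClosed_closure
        (closure_minimal (Set.singleton_subset_iff.mpr (specializes_iff_mem_closure.mp hsp)) isClosed_closure)
        (fun hgx => hne (hsp.antisymm (specializes_iff_mem_closure.mpr hgx)).eq) subset_rfl ?_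
      rw [heq g hgC.1 hgy]
      exact hm
    have hno : ∀ m : ℕ, ¬ topologicalKrullDim (closure ({y} : Set X)) < (m : ℕ) := by
      intro m
      induction m with
      | zero => exact not_lt.mpr (nonneg_dim ⟨y, subset_closure rfl⟩)
      | succ m ih => exact fun hm => ih (hdec m hm)
    obtain ⟨D, hD⟩ := HilbPolyLib.exists_dim_lt k (X := X)
    exact hno D ((topologicalKrullDim_subspace_le _ _).trans_lt hD)
  subst hxy
  refine lt_of_add_lt ((key x).symm.trans_lt (lt_of_le_of_lt
    (dim_mono (hS.closure_subset_iff.mpr (by simpa using hxS))) hd)) hx ?_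
  exact nonneg_dim ⟨f.asFiber x, subset_closure rfl⟩

end IntFunLib

end
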