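import Groth.Agent.IntFunLib.Main
import Groth.Agent.IntMultLib.Main
import Groth.Agent.IntMultLib.Positive
import Groth.Agent.DegPullLib.Rank
import Groth.Agent.AlgSpRegLib.ImageReduced

/-!
# The degree formula
-/

set_option autoImplicit false
set_option linter.style.haveILetI false
universe u

open CategoryTheory CategoryTheory.Limits AlgebraicGeometry TopologicalSpace Opposite
open HilbPolyLib DevissLib IntMultLib

noncomputable section

namespace IntFunLib

theorem cubeSum_hilb_eq_intNum {k : Type u} [Field k] {X : Scheme.{u}} [X.Over (Spec (CommRingCat.of k))]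
    [IsProper (X ↘ Spec (CommRingCat.of k))] {d : ℕ} (hd : topologicalKrullDim X ≤ (d : ℕ)) :
    ∀ (r : ℕ) (L : Fin r → X.Modules) (F : X.Modules),
      cubeSum (hilb k L F) = (FGA.intNum k X d L F : ℚ)
  | 0, L, F => by
    rw [intNum_zero hd]
    simp only [cubeSum, LinearMap.coe_mk, AddHom.coe_mk, bSgn, Fintype.sum_unique, Fin.prod_univ_zero,
      one_mul, hilb, hilbFun]
    exact congrArg Int.cast (CurvLib.euler_congr (unitLeft F))
  | r + 1, L, F => by
    rw [cubeSum_succ, cubeSum_hilb_eq_intNum hd r, cubeSum_hilb_eq_intNum hd r,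
      show L = Fin.cons (L 0) (fun j => L j.succ) from (Fin.cons_self_tail L).symm, intNum_cons hd]
    push_cast
    rfl

/-- A closed set with the closure of a point. -/
theorem support_quotMod_eq {X : Scheme.{u}} [IsNoetherian X] (η : X) :
    CohB1.support (ClSub.quotMod (ptIdeal η)) = closure {η} := (generator η).2.1

theorem support_push_subset' {X Z : Scheme.{u}} (h : Z ⟶ X) (hc : IsClosed (Set.range h)) (G : Z.Modules) :
    CohB1.support ((Coh.push h).obj G) ⊆ Set.range h := by
  intro x hx
  by_contra hxr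
  refine hx ((QCohLib.subsingleton_stalk_iff _ x).mpr fun W hxW t => ?_)
  refine ⟨W ⊓ ⟨(Set.range h)ᶜ, hc.isOpen_compl⟩, inf_le_left, ⟨hxW, hxr⟩, ?_⟩
  exact TopCat.Presheaf.section_ext ((QCohLib.toAbF Z).obj G : TopCat.Sheaf AddCommGrpCat _)
    (h ⁻¹ᵁ (W ⊓ ⟨(Set.range h)ᶜ, hc.isOpen_compl⟩)) _ _ fun q hq => absurd ⟨q, rfl⟩ hq.2

/-- The stalk of the direct image of the structure sheaf of an integral scheme has the residue
degree as length. -/
theorem len_push_structure {X Z : Scheme.{u}} [IsIntegral Z] (h : Z ⟶ X) (hc : IsClosedMap h.base)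
    (hfib : ∀ z, h z = h (genericPoint Z) → z = genericPoint Z) :
    (len ((Coh.push h).obj (Coh.structureModule Z)) (h (genericPoint Z))).toNat =
      h.residueDegree (genericPoint Z) := by
  let ξ := genericPoint Z
  let A := X.presheaf.stalk (h ξ)
  let K := Z.presheaf.stalk ξ
  let G := Coh.structureModule Z
  letI alg : Algebra A K := (h.stalkMap ξ).hom.toAlgebra
  letI : Module A (G.presheaf.stalk ξ) := Module.compHom _ (h.stalkMap ξ).hom
  haveI : IsScalarTower A K (G.presheaf.stalk ξ) := IsScalarTower.of_compHom _ _ _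
  let σ := (TopCat.Presheaf.stalkPushforward AddCommGrpCat h.base G.presheaf ξ).hom
  let σ' : ((Coh.push h).obj G).presheaf.stalk (h ξ) →ₗ[A] G.presheaf.stalk ξ :=
    { toFun := fun a => σ a
      map_add' := fun a b => map_add σ a b
      map_smul' := fun c a => DegPullLib.stalkPushforward_smul h G ξ c a }
  let e : ((Coh.push h).obj G).presheaf.stalk (h ξ) ≃ₗ[A] K :=
    (LinearEquiv.ofBijective σ' (DegPullLib.bijective_stalkPushforward h hc G ξ hfib)).trans
      ((show G.presheaf.stalk ξ ≃ₗ[K] K from CurvLib.stalkStructureEquiv ξ).restrictScalars A)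
  rw [show h (genericPoint Z) = h ξ from rfl, len, e.length_eq]
  let κ := IsLocalRing.ResidueField A
  letI : Algebra (X.residueField (h ξ)) (Z.residueField ξ) := (h.residueFieldMap ξ).hom.toAlgebra
  have hK : IsField K := (inferInstance : Field Z.functionField).toIsField
  have hb : Function.Bijective (IsLocalRing.residue K) := by
    refine ⟨(RingHom.injective_iff_ker_eq_bot _).mpr ?_, IsLocalRing.residue_surjective⟩
    rw [IsLocalRing.ker_residue]
    exact (IsLocalRing.isField_iff_maximalIdeal_eq).mp hK
  letI : Algebra A (X.residueField (h ξ)) := (IsLocalRing.residue A).toAlgebra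
  letI : Algebra A (Z.residueField ξ) := ((IsLocalRing.residue K).comp (h.stalkMap ξ).hom).toAlgebra
  let eK : K ≃ₗ[A] Z.residueField ξ :=
    { RingEquiv.ofBijective _ hb with
      map_smul' := fun a c => (IsLocalRing.residue K).map_mul _ _ }
  haveI : IsScalarTower A (X.residueField (h ξ)) (Z.residueField ξ) := IsScalarTower.of_algebraMap_eq fun a =>
    (IsLocalRing.ResidueField.map_residue (h.stalkMap ξ).hom a).symm
  rw [eK.length_eq, Module.length_eq_of_surjective (R := X.residueField (h ξ))
    (IsLocalRing.residue_surjective (R := A))]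
  unfold Scheme.Hom.residueDegree
  by_cases hf : Module.Finite (X.residueField (h ξ)) (Z.residueField ξ)
  · rw [Module.length_eq_finrank, ENat.toNat_coe]
  · rw [Module.length_eq_rank, Module.finrank]
    rfl

variable {k : Type u} [Field k] {X Y : Scheme.{u}}
  [X.Over (Spec (CommRingCat.of k))] [Y.Over (Spec (CommRingCat.of k))]
  [IsProper (X ↘ Spec (CommRingCat.of k))] [IsProper (Y ↘ Spec (CommRingCat.of k))]

/-- **The degree formula.** -/
theorem coeff_degree (f : Y ⟶ X) (hf : f ≫ (X ↘ Spec (CommRingCat.of k)) = Y ↘ Spec (CommRingCat.of k))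
    (Z : Y.IdealSheafData) [IsIntegral Z.subscheme] (d : ℕ)
    (hZ : topologicalKrullDim (Z.support : Set Y) = d)
    (L : Fin d → X.Modules) (hL : ∀ i, PicF.IsInvertible (L i))
    (PY PX : MvPolynomial (Fin d) ℚ)
    (hPY : hilb k (fun i => (Scheme.Modules.pullback f).obj (L i)) (ClSub.quotMod Z) = pfun PY)
    (hPX : hilb k L (ClSub.quotMod (Z.subschemeι ≫ f).ker) = pfun PX) :
    PY.coeff (oneExp d) =
      ((Z.subschemeι ≫ f).residueDegree (genericPoint Z.subscheme) : ℚ) * PX.coeff (oneExp d) := by
  haveI := CurvLib.isNoetherian k (X := X)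
  haveI := CurvLib.isNoetherian k (X := Y)
  haveI : IsProper f := isProper_of_over hf
  haveI : HasInjectiveResolutions Y.Modules := inferInstance
  obtain ⟨DX, hDX⟩ := exists_dim_lt k (X := X)
  obtain ⟨DY, hDY⟩ := exists_dim_lt k (X := Y)
  let ι := Z.subschemeι
  let h := ι ≫ f
  let ξ := genericPoint Z.subscheme
  let η := h ξ
  have hsZ : topologicalKrullDim (CohB1.support (ClSub.quotMod Z)) < ((d + 1 : ℕ) : WithBot ℕ∞) :=
    ((dim_mono (CurvLib.support_quotMod_subset Z)).trans hZ.le).trans_lt (by exact_mod_cast Nat.lt_succ_self d)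
  have hrange : Set.range h = closure {η} := by
    refine Set.Subset.antisymm ?_ (h.isClosedMap.isClosed_range.closure_subset_iff.mpr
      (Set.singleton_subset_iff.mpr ⟨ξ, rfl⟩))
    rintro _ ⟨z, rfl⟩
    exact specializes_iff_mem_closure.mp (((genericPoint_spec _).specializes trivial).map h.continuous)
  have hker : h.ker = ptIdeal η := by
    rw [AlgSpRegLib.ker_eq_vanishingIdeal]
    refine congrArg Scheme.IdealSheafData.vanishingIdeal (Closeds.ext ?_)
    change closure (Set.range h) = closure {η}
    rw [hrange, closure_closure]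
  have hZset : (Z.support : Set Y) = Set.range ι := Z.range_subschemeι.symm
  have hZdim : topologicalKrullDim Z.subscheme = d := by
    rw [← hZ, hZset]
    exact IsHomeomorph.topologicalKrullDim_eq _ ι.isEmbedding.toHomeomorph.isHomeomorph
  have hξd : topologicalKrullDim (closure ({ξ} : Set Z.subscheme)) = d := by
    rw [← hZdim, (genericPoint_spec Z.subscheme).def]
    exact IsHomeomorph.topologicalKrullDim_eq _ (Homeomorph.Set.univ _).isHomeomorph
  haveI : LocallyOfFiniteType h := inferInstance
  have hkey : ∀ z : Z.subscheme, topologicalKrullDim (closure ({z} : Set Z.subscheme)) =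
      topologicalKrullDim (closure ({h z} : Set X)) + UOpenLib.fibreClosureDim h z :=
    FibDimLib.topologicalKrullDim_closure_eq_add (X ↘ Spec (CommRingCat.of k)) h
  have hmono : ∀ z, topologicalKrullDim (closure ({h z} : Set X)) ≤
      topologicalKrullDim (closure ({z} : Set Z.subscheme)) := fun z => by
    rw [hkey z]
    exact le_add_of_nonneg_right (nonneg_dim ⟨_, subset_closure rfl⟩)
  have hηd : topologicalKrullDim (closure ({η} : Set X)) ≤ (d : ℕ) := (hmono ξ).trans hξd.le
  have hsD : topologicalKrullDim (CohB1.support (ClSub.quotMod h.ker)) < ((d + 1 : ℕ) : WithBot ℕ∞) := by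
    rw [hker, support_quotMod_eq]
    exact hηd.trans_lt (by exact_mod_cast Nat.lt_succ_self d)
  rw [coeff_eq_cubeSum (hilb_mem (fun i => AmpleDevLib.isInvertible_pb f (hL i)) (CurvLib.isCoh_quotMod Z) hsZ) PY hPY,
    coeff_eq_cubeSum (hilb_mem hL (CurvLib.isCoh_quotMod _) hsD) PX hPX,
    cubeSum_hilb_eq_intNum hDY.le, intNum_push hf hDX.le hDY.le L hL _ (CurvLib.isCoh_quotMod Z) hsZ,
    ← cubeSum_hilb_eq_intNum hDX.le]
  let M := (Coh.push f).obj (ClSub.quotMod Z)
  let M' := (Coh.push h).obj (Coh.structureModule Z.subscheme)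
  let eM : M ≅ M' := (Scheme.Modules.pushforwardComp ι f).app _
  have hM : Coh.IsCoh M := FormalCohLib.isCoh_push_proper f (CurvLib.isCoh_quotMod Z)
  have hMs : CohB1.support M ⊆ closure {η} := by
    rw [DevissLib.support_iso eM, ← hrange]
    exact support_push_subset' h h.isClosedMap.isClosed_range _
  change (-1 : ℚ) ^ d * cubeSum (hilb k L M) = _
  rcases hηd.lt_or_eq with hlt | heq
  · rw [hker, cubeSum_eq_zero (hilb_mem hL (CurvLib.isCoh_quotMod _) (by rw [support_quotMod_eq]; exact hlt)),
      cubeSum_eq_zero (hilb_mem hL hM ((dim_mono hMs).trans_lt hlt))]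
    simp
  obtain ⟨T, hT, hmem⟩ := main (k := k) hL (Y := closure ({η} : Set X)) isClosed_closure ⟨η, subset_closure rfl⟩ hηd M hM hMs
  have hT' : T = {η} := Finset.ext fun y => by
    rw [hT, Finset.mem_singleton]
    refine ⟨fun ⟨hy, hyd⟩ => ?_, fun hy => by subst hy; exact ⟨subset_closure rfl, heq⟩⟩
    exact (eq_of_specializes_of_dim isClosed_closure hηd hyd (subset_closure rfl)
      (specializes_iff_mem_closure.mpr hy)).symm
  have hfib : ∀ z, h z = h ξ → z = ξ := fun z hz => by
    have h1 : topologicalKrullDim (closure ({z} : Set Z.subscheme)) = d := le_antisymm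
      (((dim_mono (Set.subset_univ _)).trans_eq
        (IsHomeomorph.topologicalKrullDim_eq _ (Homeomorph.Set.univ _).isHomeomorph)).trans hZdim.le)
      (heq.symm.le.trans (by rw [show η = h z from hz.symm]; exact hmono z))
    refine (eq_of_specializes_of_dim isClosed_univ
      ((IsHomeomorph.topologicalKrullDim_eq _ (Homeomorph.Set.univ _).isHomeomorph).trans_le hZdim.le) h1
      trivial ?_).symm
    exact (genericPoint_spec _).specializes trivial
  have hlen : ((len M η).toNat : ℚ) = h.residueDegree ξ := by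
    rw [len_congr eM η]
    exact_mod_cast len_push_structure h h.isClosedMap hfib
  have hcs := cubeSum_eq_zero hmem
  rw [hT', Finset.sum_singleton, map_sub, map_smul, smul_eq_mul, sub_eq_zero, hlen] at hcs
  rw [hcs, hker]
  ring

end IntFunLib

end
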