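import Groth.Agent.IntFunLib.Nef

/-!
# Kleiman's theorem: self-intersections of nef modules are nonnegative
-/

set_option autoImplicit false
set_option linter.style.haveILetI false
universe u

open CategoryTheory CategoryTheory.Limits AlgebraicGeometry TopologicalSpace Opposite
open HilbPolyLib DevissLib IntMultLib
open KFlatLib (pb)

noncomputable section

namespace IntFunLib

variable {k : Type u} [Field k] {X : Scheme.{u}} [X.Over (Spec (CommRingCat.of k))]
  [IsProper (X ↘ Spec (CommRingCat.of k))]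

theorem dim_closure_generic [IsIntegral X] :
    topologicalKrullDim (closure ({genericPoint X} : Set X)) = topologicalKrullDim X := by
  rw [(genericPoint_spec X).def]
  exact (Homeomorph.Set.univ _).isHomeomorph.topologicalKrullDim_eq

theorem dim_closure_lt_generic [IsIntegral X] {d : ℕ} (hX : topologicalKrullDim X = (d : WithBot ℕ∞))
    {ξ : X} {e : ℕ} (hξ : topologicalKrullDim (closure ({ξ} : Set X)) = (e : WithBot ℕ∞)) :
    e < d ∨ e = d ∧ ξ = genericPoint X := by
  have hle : e ≤ d := by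
    have h := (topologicalKrullDim_subspace_le _ (closure ({ξ} : Set X))).trans hX.le
    rw [hξ] at h
    exact_mod_cast h
  rcases hle.lt_or_eq with h | h
  · exact Or.inl h
  · subst h
    exact Or.inr ⟨rfl, (eq_of_specializes_of_dim isClosed_univ ((topologicalKrullDim_subspace_le _ _).trans hX.le)
      hξ trivial ((genericPoint_spec X).specializes trivial)).symm⟩

/-- The induction step on an integral scheme of dimension `d`. -/
theorem core [IsIntegral X] {d : ℕ} (IH : ∀ e, e < d → Hyp k e)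
    (hX : topologicalKrullDim X = (d : WithBot ℕ∞)) {L H : X.Modules} (hL : PicF.IsInvertible L)
    (hLn : Nef k L) (hH : CohB1.IsAmple H) (a b : ℕ) (hab : a + b = d) :
    0 ≤ J k L H (Coh.structureModule X) a b := by
  haveI := CurvLib.isNoetherian k (X := X)
  have hη : topologicalKrullDim (closure ({genericPoint X} : Set X)) = (d : WithBot ℕ∞) :=
    dim_closure_generic.trans hX
  have hstr : ∀ (l : List X.Modules), (∀ A ∈ l, PicF.IsInvertible A) → l.length = d →
      N k l (Coh.structureModule X) = N k l (Fpt (genericPoint X)) := fun l hl hlen =>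
    N_structure hl (by rw [hX, hlen])
  have hJF : ∀ a b, a + b = d → J k L H (Coh.structureModule X) a b = J k L H (Fpt (genericPoint X)) a b :=
    fun a b h => hstr _ (inv_rep hL hH.1 a b) (by simp [h])
  -- a positive number of copies of `H`
  have hb : ∀ a b, a + b = d → 1 ≤ b → 0 ≤ J k L H (Coh.structureModule X) a b := by
    intro a b hab hb
    obtain ⟨c, rfl⟩ : ∃ c, b = c + 1 := ⟨b - 1, by omega⟩
    have hperm : (List.replicate a L ++ List.replicate (c + 1) H).Perm
        (H :: (List.replicate a L ++ List.replicate c H)) := by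
      rw [List.replicate_succ]; exact List.perm_middle
    rw [J, N_perm hperm]
    refine N_cons_ample_nonneg (d := a + c) (by rw [hX]; exact_mod_cast (by omega : d = a + c + 1)) hH
      (inv_rep hL hH.1 a c) (by simp) fun ξ hξ => ?_
    exact IH (a + c) (by omega) X L H hL hLn hH a c rfl ξ hξ
  rcases Nat.eq_zero_or_pos b with hb0 | hb0
  swap
  · exact hb a b hab hb0
  obtain rfl : a = d := by omega
  subst hb0
  rcases Nat.lt_or_ge a 2 with ha | ha
  · rw [hJF a 0 (by omega)]
    interval_cases a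
    · exact (N_ample_pos (k := k) (d := 0) hH hη).le
    · exact hLn _ hη
  by_contra hneg
  push Not at hneg
  let j : ℕ → ℕ → ℝ := fun a b => (J k L H (Fpt (genericPoint X)) a b : ℝ)
  have hj : ∀ a' b', a' + b' = a → 1 ≤ b' → 0 ≤ j a' b' := fun a' b' h h1 => by
    have := hb a' b' h h1
    rw [hJF a' b' h] at this
    simp only [j]
    exact_mod_cast this
  have hj0 : j a 0 < 0 := by
    rw [hJF a 0 (by omega)] at hneg
    simp only [j]
    exact_mod_cast hneg
  have hjd : 0 < j 0 a := by
    simp only [j]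
    exact_mod_cast J_zero_pos (k := k) (L := L) hH hη
  let P : ℝ → ℝ := Pf j a 0 0
  have hP0 : P 0 < 0 := by simpa [P, Pf_zero] using hj0
  obtain ⟨c, rfl⟩ : ∃ c, a = c + 1 := ⟨a - 1, by omega⟩
  have hsplit : ∀ t, P t = Pf j c 1 0 t + t * Pf j c 0 1 t := fun t => rfl
  have hR : ∀ t, 0 ≤ t → t ^ c * j 0 (c + 1) ≤ Pf j c 0 1 t := fun t ht => by
    have := le_Pf j (d := c + 1) (c := 1) hj c 0 1 (by omega) le_rfl t ht
    rwa [Nat.add_comm 1 c] at this
  have hQ : ∀ t, 0 ≤ t → j (c + 1) 0 ≤ Pf j c 1 0 t := by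
    suffices h : ∀ e a' , e + a' = c + 1 → ∀ t : ℝ, 0 ≤ t → j (c + 1) 0 ≤ Pf j e a' 0 t from h c 1 rfl
    intro e
    induction e with
    | zero => intro a' he t _; rw [Pf, show a' = c + 1 by omega]
    | succ e ih =>
      intro a' he t ht
      have h1 := ih (a' + 1) (by omega) t ht
      have h2 := le_Pf j (d := c + 1) (c := 1) hj e a' 1 (by omega) le_rfl t ht
      have h3 : 0 ≤ t ^ e * j a' (1 + e) := mul_nonneg (pow_nonneg ht e) (hj _ _ (by omega) (by omega))
      have h4 : 0 ≤ t * Pf j e a' 1 t := mul_nonneg ht (h3.trans h2)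
      rw [Pf]; linarith
  -- the largest zero of `P`
  let S : Set ℝ := {t | 0 ≤ t ∧ P t ≤ 0}
  have hScl : IsClosed S := isClosed_Ici.inter (isClosed_le (continuous_Pf j _ _ _) continuous_const)
  have hSne : S.Nonempty := ⟨0, le_rfl, hP0.le⟩
  have hSbdd : BddAbove S := by
    refine ⟨max 1 (-(j (c + 1) 0) / j 0 (c + 1) + 1), fun t ⟨ht, htP⟩ => ?_⟩
    by_contra hgt
    push Not at hgt
    obtain ⟨h1, h2⟩ := max_lt_iff.mp hgt
    have hpow : (1 : ℝ) ≤ t ^ c := one_le_pow₀ h1.le
    have h3 : j 0 (c + 1) ≤ Pf j c 0 1 t := le_trans (le_mul_of_one_le_left hjd.le hpow) (hR t ht)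
    have h4 : -(j (c + 1) 0) < t * j 0 (c + 1) :=
      (div_lt_iff₀ hjd).mp (by linarith)
    have h5 := mul_le_mul_of_nonneg_left h3 ht
    rw [hsplit] at htP
    linarith [hQ t ht]
  set t₀ := sSup S
  obtain ⟨ht₀, hPt₀⟩ : 0 ≤ t₀ ∧ P t₀ ≤ 0 := hScl.csSup_mem hSne hSbdd
  have hpos : ∀ t, t₀ < t → 0 < P t := fun t ht => by
    by_contra h
    push Not at h
    exact not_lt.mpr (le_csSup hSbdd ⟨ht₀.trans ht.le, h⟩) ht
  -- the crucial inequality at rational points beyond the largest zero
  have hkey : ∀ (p q : ℕ), 0 < q → t₀ < (p : ℝ) / q → 0 ≤ Pf j c 1 0 ((p : ℝ) / q) := by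
    intro p q hq ht
    have htpos : (0 : ℝ) < (p : ℝ) / q := lt_of_le_of_lt ht₀ ht
    let A := CohB1.tensorMod (CohB1.tensorPow L q) (CohB1.tensorPow H p)
    have hA : CohB1.IsAmple A := isAmple_comb hL hH hq fun ξ e he hξ => by
      rcases dim_closure_lt_generic hX hξ with h | ⟨rfl, rfl⟩
      · exact Pf_pos_of_nonneg hH hξ (fun a' b' h' => IH e h X L H hL hLn hH a' b' h' ξ hξ) htpos
      · exact hpos _ ht
    obtain ⟨f, rfl⟩ : ∃ f, c = f + 1 := ⟨c - 1, by omega⟩
    let m := List.replicate 1 L ++ List.replicate f A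
    have h1 : 0 ≤ N k (A :: m) (Coh.structureModule X) :=
      N_cons_ample_nonneg (d := 1 + f) (hX.trans (congrArg Nat.cast (by omega : f + 1 + 1 = 1 + f + 1))) hA
        (inv_rep hL hA.1 1 f) (by simp [m]; omega) fun ξ hξ =>
          IH (1 + f) (by omega) X L A hL hLn hA 1 f rfl ξ hξ
    have hperm : (A :: m).Perm
        (List.replicate (f + 1) A ++ (List.replicate 1 L ++ List.replicate 0 H)) := by
      simp only [m, List.replicate_succ, List.replicate_zero, List.append_nil, List.cons_append, List.nil_append]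
      exact List.Perm.cons _ (List.perm_append_comm (l₁ := [L]))
    rw [N_perm hperm, hstr _ (fun B hB => by
      rcases List.mem_append.mp hB with h | h
      · rw [List.eq_of_mem_replicate h]; exact hA.1
      · exact inv_rep hL hH.1 1 0 B h) (by simp)] at h1
    have h2 := N_expand (k := k) hL hH.1 (p := p) hq (coh_Fpt k (genericPoint X)) (d := f + 1 + 1)
      (by rw [supp_Fpt k, hη]) (f + 1) 1 0 (by omega)
    have h3 : (0 : ℝ) ≤ (q : ℝ) ^ (f + 1) * Pf j (f + 1) 1 0 ((p : ℝ) / q) := by
      rw [← h2]; exact_mod_cast h1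
    exact nonneg_of_mul_nonneg_right h3 (pow_pos (by exact_mod_cast hq) _)
  -- pass to the limit
  have hQ0 : 0 ≤ Pf j c 1 0 t₀ := by
    by_contra h
    push Not at h
    obtain ⟨δ, hδ, hδ'⟩ := Metric.eventually_nhds_iff.mp ((continuous_Pf j c 1 0).continuousAt.eventually_lt
      continuousAt_const h)
    obtain ⟨r, hr1, hr2⟩ := exists_rat_btwn (lt_add_of_pos_right t₀ hδ)
    have hr0 : (0 : ℝ) < (r : ℝ) := ht₀.trans_lt hr1
    have hr0' : 0 < r := by exact_mod_cast hr0
    have hr : ((r : ℝ)) = (r.num.toNat : ℝ) / (r.den : ℝ) := by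
      rw [Rat.cast_def]
      congr 1
      exact_mod_cast (Int.toNat_of_nonneg (Rat.num_pos.mpr hr0').le).symm
    have := hkey r.num.toNat r.den r.den_pos (by rwa [← hr])
    rw [← hr] at this
    have hclose : dist (r : ℝ) t₀ < δ := by rw [Real.dist_eq, abs_of_pos (by linarith)]; linarith
    exact absurd (hδ' hclose) (not_lt.mpr this)
  have hne : t₀ ≠ 0 := by
    intro h0
    rw [h0, Pf_zero] at hQ0
    rw [Nat.add_comm 1 c] at hQ0
    exact absurd hQ0 (not_le.mpr hj0)
  have htpos : 0 < t₀ := lt_of_le_of_ne ht₀ (Ne.symm hne)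
  have h6 : 0 < t₀ * Pf j c 0 1 t₀ :=
    mul_pos htpos (lt_of_lt_of_le (mul_pos (pow_pos htpos c) hjd) (hR t₀ ht₀))
  rw [hsplit] at hPt₀
  linarith

theorem hyp_all : ∀ d, Hyp.{u} k d := by
  intro d
  induction d using Nat.strong_induction_on with
  | _ d IH =>
  intro X _ _ L H hL hLn hH a b hab ξ hξ
  haveI := CurvLib.isNoetherian k (X := X)
  haveI := isIntegral_ptIdeal ξ
  let W := (ptIdeal ξ).subscheme
  let g : W ⟶ X := (ptIdeal ξ).subschemeι
  letI : W.Over (Spec (CommRingCat.of k)) := ⟨g ≫ (X ↘ Spec (CommRingCat.of k))⟩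
  haveI : IsProper (W ↘ Spec (CommRingCat.of k)) :=
    inferInstanceAs (IsProper (g ≫ (X ↘ Spec (CommRingCat.of k))))
  have hW : topologicalKrullDim W = (d : WithBot ℕ∞) := by
    rw [← hξ]
    exact (g.isEmbedding.toHomeomorph.trans
      (Homeomorph.setCongr (range_ptIdeal ξ))).isHomeomorph.topologicalKrullDim_eq
  have hrfl : g ≫ (X ↘ Spec (CommRingCat.of k)) = W ↘ Spec (CommRingCat.of k) := rfl
  have h := core (k := k) (X := W) (fun e he => IH e he) hW (AmpleDevLib.isInvertible_pb g hL)
    (hLn.pullback hrfl hL) (AmpleDevLib.isAmple_pb g hH.1 hH) a b hab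
  rw [J] at h ⊢
  have h1 := N_push (k := k) hrfl (inv_rep hL hH.1 a b) (DevissLib.isCoh_structureModule W)
    ((topologicalKrullDim_subspace_le _ _).trans (by rw [hW]; simp [hab]))
  rw [List.map_append, List.map_replicate, List.map_replicate] at h1
  rw [h1] at h
  exact h

/-- Nef modules on projective schemes: nonnegativity. -/
theorem N_nef_nonneg_proj {L H : X.Modules} (hL : PicF.IsInvertible L) (hLn : Nef k L) (hH : CohB1.IsAmple H)
    {d : ℕ} {ξ : X} (hξ : topologicalKrullDim (closure ({ξ} : Set X)) = (d : WithBot ℕ∞)) :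
    0 ≤ N k (List.replicate d L) (Fpt ξ) := by
  simpa [J] using hyp_all (k := k) d X L H hL hLn hH d 0 rfl ξ hξ

/-- Nef plus ample is ample. -/
theorem isAmple_nef_add {L H : X.Modules} (hL : PicF.IsInvertible L) (hLn : Nef k L) (hH : CohB1.IsAmple H)
    {p q : ℕ} (hq : 0 < q) (hp : 0 < p) :
    CohB1.IsAmple (CohB1.tensorMod (CohB1.tensorPow L q) (CohB1.tensorPow H p)) :=
  isAmple_comb hL hH hq fun ξ e _ hξ =>
    Pf_pos_of_nonneg hH hξ (fun a b h => hyp_all (k := k) e X L H hL hLn hH a b h ξ hξ)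
      (div_pos (by exact_mod_cast hp) (by exact_mod_cast hq))

theorem exists_point_over {Y : Scheme.{u}} [Y.Over (Spec (CommRingCat.of k))]
    [IsProper (Y ↘ Spec (CommRingCat.of k))] {g : Y ⟶ X}
    (hg : g ≫ (X ↘ Spec (CommRingCat.of k)) = Y ↘ Spec (CommRingCat.of k)) (η : X)
    (hη : η ∈ Set.range g) : ∃ x : Y, g x = η ∧
      topologicalKrullDim (closure ({x} : Set Y)) = topologicalKrullDim (closure ({η} : Set X)) := by
  haveI := isProper_g hg
  obtain ⟨y, rfl⟩ := hη
  haveI : CompactSpace (g.fiber (g y)) :=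
    QuasiCompact.compactSpace_of_compactSpace (g.fiberToSpecResidueField (g y))
  obtain ⟨e, -, he⟩ := IsClosed.exists_closed_singleton (isClosed_univ (X := (g.fiber (g y))))
    ⟨g.asFiber y, trivial⟩
  let w := ((g.fiberHomeo (g y)) e).1
  have hw : g w = g y := ((g.fiberHomeo (g y)) e).2
  refine ⟨w, hw, ?_⟩
  have he2 : topologicalKrullDim (closure ({g.asFiber w} : Set (g.fiber (g w)))) = 0 := by
    have aux : ∀ (z : X) (hz : g w = z) (e : g.fiber z), ((g.fiberHomeo z) e).1 = w → IsClosed ({e} : Set (g.fiber z)) →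
        IsClosed ({g.asFiber w} : Set (g.fiber (g w))) := by
      rintro z rfl e' he' hcl
      have : g.asFiber w = e' := (g.fiberHomeo (g w)).injective
        (Subtype.ext ((congrArg Subtype.val ((g.fiberHomeo (g w)).apply_symm_apply ⟨w, rfl⟩)).trans he'.symm))
      rwa [this]
    have hcl := aux (g y) hw e rfl he
    rw [hcl.closure_eq]
    refine le_antisymm ?_ (nonneg_dim ⟨_, rfl⟩)
    exact topologicalKrullDim_zero_of_discreteTopology _
  rw [FibDimLib.topologicalKrullDim_closure_eq_add (X ↘ Spec (CommRingCat.of k)) g w,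
    show UOpenLib.fibreClosureDim g w = 0 from he2, add_zero, show g w = g y from hw]

/-- The unit section has nonzero germ at the image of the generic point. -/
theorem not_subsingleton_stalk_push_structure {Z S : Scheme.{u}} [IsIntegral Z] (h : Z ⟶ S) :
    ¬ Subsingleton (((Coh.push h).obj (Coh.structureModule Z)).presheaf.stalk (h (genericPoint Z))) := by
  intro hsub
  obtain ⟨W, hle, hW, hz⟩ := (QCohLib.subsingleton_stalk_iff _ _).mp hsub ⊤ trivial (1 : Γ(Z, ⊤))
  have h1 : (1 : Γ(Z, h ⁻¹ᵁ W)) = 0 := (map_one (Z.presheaf.map (homOfLE le_top).op).hom).symm.trans hz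
  haveI : Nonempty (h ⁻¹ᵁ W : Z.Opens) := ⟨⟨genericPoint Z, hW⟩⟩
  exact one_ne_zero h1

/-- The direct image of the structure sheaf of an integral subscheme lives at the image of its generic point. -/
theorem mem_support_push {Y : Scheme.{u}} [Y.Over (Spec (CommRingCat.of k))]
    [IsProper (Y ↘ Spec (CommRingCat.of k))] {g : Y ⟶ X}
    (hg : g ≫ (X ↘ Spec (CommRingCat.of k)) = Y ↘ Spec (CommRingCat.of k)) (ξ : Y) :
    g ξ ∈ CohB1.support ((Coh.push g).obj (Fpt ξ)) := by
  intro hsub
  have hs : ξ ∈ CohB1.support (Fpt ξ) := by rw [supp_Fpt k]; exact subset_closure rfl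
  let h := (ptIdeal ξ).subschemeι ≫ g
  let M := (Coh.push h).obj (Coh.structureModule (ptIdeal ξ).subscheme)
  haveI := isIntegral_ptIdeal ξ
  have hh : h (genericPoint (ptIdeal ξ).subscheme) = g ξ := by
    refine congrArg g (IsGenericPoint.eq ?_ (isGenericPoint_closure (x := ξ)))
    have := (genericPoint_spec (ptIdeal ξ).subscheme).image (ptIdeal ξ).subschemeι.continuous
    rwa [Set.image_univ, range_ptIdeal, closure_closure] at this
  let e : (Coh.push g).obj (Fpt ξ) ≅ M := (Scheme.Modules.pushforwardComp (ptIdeal ξ).subschemeι g).app _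
  have hsub' : Subsingleton (M.presheaf.stalk (h (genericPoint (ptIdeal ξ).subscheme))) := by
    by_contra hne
    have : g ξ ∈ CohB1.support M := by rw [← hh]; exact hne
    rw [← DevissLib.support_iso e] at this
    exact this hsub
  exact not_subsingleton_stalk_push_structure h hsub'

/-- **Kleiman's theorem**: on a proper scheme, nef modules have nonnegative self-intersections. -/
theorem N_nef_nonneg {L : X.Modules} (hL : PicF.IsInvertible L) (hLn : Nef k L)
    {d : ℕ} {η : X} (hη : topologicalKrullDim (closure ({η} : Set X)) = (d : WithBot ℕ∞)) :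
    0 ≤ N k (List.replicate d L) (Fpt η) := by
  haveI := CurvLib.isNoetherian k (X := X)
  obtain ⟨n, X', π, i, hi, hib, hπ, hsurj, -⟩ := ChowLib.chow_all (X ↘ Spec (CommRingCat.of k))
  haveI := hπ
  haveI : IsProper (i ≫ CohB1.ProjSpaceOver.toBase n (Spec (CommRingCat.of k))) := by
    rw [hib]; infer_instance
  let f := i ≫ CohB1.ProjSpaceOver.toBase n (Spec (CommRingCat.of k))
  let U := f ⁻¹ᵁ (⊤ : (Spec (CommRingCat.of k)).Opens)
  have hamp := PnCohLib.isAmple_twist_restrict (i := i) (W := (⊤ : (Spec (CommRingCat.of k)).Opens))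
    (isAffineOpen_top _)
  haveI : IsIso U.ι := by
    exact (inferInstance : IsIso X'.topIso.hom)
  let g : U.toScheme ⟶ X := U.ι ≫ π
  letI : U.toScheme.Over (Spec (CommRingCat.of k)) := ⟨g ≫ (X ↘ Spec (CommRingCat.of k))⟩
  haveI : IsProper (U.toScheme ↘ Spec (CommRingCat.of k)) :=
    inferInstanceAs (IsProper (g ≫ (X ↘ Spec (CommRingCat.of k))))
  have hrfl : g ≫ (X ↘ Spec (CommRingCat.of k)) = U.toScheme ↘ Spec (CommRingCat.of k) := rfl
  have hr : η ∈ Set.range g := by
    obtain ⟨x, hx⟩ := hsurj.1 η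
    exact ⟨⟨x, trivial⟩, hx⟩
  obtain ⟨x, hx, hxd⟩ := exists_point_over hrfl η hr
  rw [hη] at hxd
  have h0 : 0 ≤ N k (List.replicate d (pb g L)) (Fpt x) :=
    N_nef_nonneg_proj (AmpleDevLib.isInvertible_pb g hL) (hLn.pullback hrfl hL) hamp hxd
  have hl : ∀ A ∈ List.replicate d L, PicF.IsInvertible A := fun A hA => by
    rw [List.eq_of_mem_replicate hA]; exact hL
  rw [show List.replicate d (pb g L) = List.map (pb g) (List.replicate d L) from List.map_replicate.symm,
    N_push hrfl hl (coh_Fpt k x) (by rw [supp_Fpt k, hxd]; simp)] at h0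
  haveI := isProper_g hrfl
  have hc : Coh.IsCoh ((Coh.push g).obj (Fpt x)) := FormalCohLib.isCoh_push_proper g (coh_Fpt k x)
  have hs := support_push_closure hrfl x
  rw [hx] at hs
  have hmem : η ∈ CohB1.support ((Coh.push g).obj (Fpt x)) :=
    hx ▸ mem_support_push hrfl x
  obtain ⟨T, hT, hfin, hsum⟩ := N_sum (k := k) hl hc ⟨η, hmem⟩
    ((dim_mono hs).trans (by rw [hη, List.length_replicate]))
  have hT' : T = {η} := Finset.ext fun y => by
    rw [hT, Finset.mem_singleton, List.length_replicate]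
    refine ⟨fun ⟨hy, hyd⟩ => ?_, fun hy => by subst hy; exact ⟨hmem, hη⟩⟩
    exact (eq_of_specializes_of_dim isClosed_closure hη.le hyd (subset_closure rfl)
      (specializes_iff_mem_closure.mpr (hs hy))).symm
  rw [hsum, hT', Finset.sum_singleton] at h0
  have hlen : 0 < (len ((Coh.push g).obj (Fpt x)) η).toNat := by
    refine Nat.pos_of_ne_zero fun h => ?_
    rcases ENat.toNat_eq_zero.mp h with h | h
    · exact hmem (Module.length_eq_zero_iff.mp h)
    · exact hfin η (hT' ▸ Finset.mem_singleton_self η) h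
  rw [nsmul_eq_mul] at h0
  exact nonneg_of_mul_nonneg_right h0 (by exact_mod_cast hlen)

end IntFunLib

end
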