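import Groth.Agent.IntFunLib.NList
import Groth.Agent.ChowLib.ChowAll
import Groth.Agent.PnCohLib.FlatCriterion
import Groth.Agent.CurvLib.Line
import Mathlib.Topology.Order.IntermediateValue

/-!
# Nef modules: Kleiman's theorem
-/

set_option autoImplicit false
set_option linter.style.haveILetI false
universe u

open CategoryTheory CategoryTheory.Limits AlgebraicGeometry TopologicalSpace Opposite
open HilbPolyLib DevissLib IntMultLib
open KFlatLib (pb)

noncomputable section

namespace IntFunLib

/-- Degree nonnegative on curves. -/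
def Nef (k : Type u) [Field k] {X : Scheme.{u}} [X.Over (Spec (CommRingCat.of k))] (L : X.Modules) : Prop :=
  ∀ ξ : X, topologicalKrullDim (closure ({ξ} : Set X)) = ((1 : ℕ) : WithBot ℕ∞) → 0 ≤ N k [L] (Fpt ξ)

variable {k : Type u} [Field k] {X : Scheme.{u}} [X.Over (Spec (CommRingCat.of k))]
  [IsProper (X ↘ Spec (CommRingCat.of k))]

/-- Nef modules pull back to nef modules. -/
theorem Nef.pullback {Y : Scheme.{u}} [Y.Over (Spec (CommRingCat.of k))] [IsProper (Y ↘ Spec (CommRingCat.of k))]
    {g : Y ⟶ X} (hg : g ≫ (X ↘ Spec (CommRingCat.of k)) = Y ↘ Spec (CommRingCat.of k))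
    {L : X.Modules} (hL : PicF.IsInvertible L) (h : Nef k L) : Nef k (pb g L) := by
  intro ξ hξ
  haveI := isProper_g hg
  haveI := CurvLib.isNoetherian k (X := X)
  have hl : ∀ A ∈ [L], PicF.IsInvertible A := by simpa using hL
  have h1 := N_push hg hl (coh_Fpt k ξ) (by rw [supp_Fpt k, hξ]; rfl)
  rw [show [pb g L] = List.map (pb g) [L] from rfl, h1]
  have hc : Coh.IsCoh ((Coh.push g).obj (Fpt ξ)) := FormalCohLib.isCoh_push_proper g (coh_Fpt k ξ)
  refine N_nonneg hl hc (((dim_mono (support_push_closure hg ξ)).trans (dim_closure_map_le hg ξ)).trans hξ.le)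
    fun η _ hη => h η hη

/-! ### Symmetric lists -/

theorem inv_rep {L H : X.Modules} (hL : PicF.IsInvertible L) (hH : PicF.IsInvertible H) (a b : ℕ) :
    ∀ A ∈ List.replicate a L ++ List.replicate b H, PicF.IsInvertible A := by
  intro A hA
  rcases List.mem_append.mp hA with h | h
  · rw [List.eq_of_mem_replicate h]; exact hL
  · rw [List.eq_of_mem_replicate h]; exact hH

variable (k) in
/-- The mixed number `L^a H^b F`. -/
def J (L H F : X.Modules) (a b : ℕ) : ℤ := N k (List.replicate a L ++ List.replicate b H) F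

/-- The numbers of `(L + tH)^e L^a H^b`. -/
def Pf (j : ℕ → ℕ → ℝ) : ℕ → ℕ → ℕ → ℝ → ℝ
  | 0, a, b, _ => j a b
  | e + 1, a, b, t => Pf j e (a + 1) b t + t * Pf j e a (b + 1) t

theorem continuous_Pf (j : ℕ → ℕ → ℝ) : ∀ e a b, Continuous (Pf j e a b)
  | 0, _, _ => continuous_const
  | e + 1, a, b => by
    show Continuous fun t => Pf j e (a + 1) b t + t * Pf j e a (b + 1) t
    exact (continuous_Pf j e _ _).add (continuous_id.mul (continuous_Pf j e _ _))

theorem Pf_zero (j : ℕ → ℕ → ℝ) : ∀ e a b, Pf j e a b 0 = j (a + e) b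
  | 0, _, _ => rfl
  | e + 1, a, b => by
    rw [Pf, Pf_zero j e, zero_mul, add_zero, Nat.add_right_comm]
    rfl

theorem le_Pf (j : ℕ → ℕ → ℝ) {d c : ℕ} (h : ∀ a b, a + b = d → c ≤ b → 0 ≤ j a b) :
    ∀ e a b, e + a + b = d → c ≤ b → ∀ t : ℝ, 0 ≤ t → t ^ e * j a (b + e) ≤ Pf j e a b t
  | 0, a, b, _, _, t, _ => by simp [Pf]
  | e + 1, a, b, hs, hc, t, ht => by
    have h1 := le_Pf j h e (a + 1) b (by omega) hc t ht
    have h2 := le_Pf j h e a (b + 1) (by omega) (by omega) t ht
    have h3 : 0 ≤ t ^ e * j (a + 1) (b + e) := mul_nonneg (pow_nonneg ht e) (h _ _ (by omega) (by omega))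
    have h4 := mul_le_mul_of_nonneg_left h2 ht
    rw [Pf, show b + (e + 1) = b + 1 + e from by omega, pow_succ]
    nlinarith [h1, h3, h4]

theorem N_expand {L H : X.Modules} (hL : PicF.IsInvertible L) (hH : PicF.IsInvertible H) {p q : ℕ} (hq : 0 < q)
    {F : X.Modules} (hF : Coh.IsCoh F) {d : ℕ} (hd : topologicalKrullDim (CohB1.support F) ≤ (d : ℕ)) :
    ∀ e a b, e + a + b = d →
      (N k (List.replicate e (CohB1.tensorMod (CohB1.tensorPow L q) (CohB1.tensorPow H p)) ++
          (List.replicate a L ++ List.replicate b H)) F : ℝ) =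
        (q : ℝ) ^ e * Pf (fun a b => (J k L H F a b : ℝ)) e a b ((p : ℝ) / q)
  | 0, a, b, _ => by simp [Pf, J]
  | e + 1, a, b, hs => by
    set A := CohB1.tensorMod (CohB1.tensorPow L q) (CohB1.tensorPow H p) with hAdef
    have hLq := AmpleThLib.tensorPow_isInvertible hL q
    have hHp := AmpleThLib.tensorPow_isInvertible hH p
    have hA : PicF.IsInvertible A := isInvertible_tensor hLq hHp
    let m := List.replicate e A ++ (List.replicate a L ++ List.replicate b H)
    have hm : ∀ B ∈ m, PicF.IsInvertible B := fun B hB => by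
      rcases List.mem_append.mp hB with h | h
      · rw [List.eq_of_mem_replicate h]; exact hA
      · exact inv_rep hL hH a b B h
    have hlen : topologicalKrullDim (CohB1.support F) ≤ (m.length + 1 : ℕ) :=
      hd.trans (le_of_eq (by simp [m]; exact_mod_cast (by omega : d = e + (a + b) + 1)))
    have h1 : N k (List.replicate (e + 1) A ++ (List.replicate a L ++ List.replicate b H)) F =
        q * N k (L :: m) F + p * N k (H :: m) F := by
      rw [List.replicate_succ, List.cons_append, hAdef, N_tensor hm hLq hHp hF hlen,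
        N_pow hm hL hF hlen, N_pow hm hH hF hlen]
    have h2 : N k (L :: m) F =
        N k (List.replicate e A ++ (List.replicate (a + 1) L ++ List.replicate b H)) F := by
      refine N_perm ?_ F
      rw [List.replicate_succ, List.cons_append]
      exact List.perm_middle.symm
    have h3 : N k (H :: m) F =
        N k (List.replicate e A ++ (List.replicate a L ++ List.replicate (b + 1) H)) F := by
      refine N_perm ?_ F
      rw [List.replicate_succ]
      exact List.perm_middle.symm.trans (List.Perm.append_left _ List.perm_middle.symm)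
    rw [h1, h2, h3]
    push_cast
    rw [N_expand hL hH hq hF hd e (a + 1) b (by omega), N_expand hL hH hq hF hd e a (b + 1) (by omega), Pf]
    have hq' : (q : ℝ) ≠ 0 := by exact_mod_cast hq.ne'
    field_simp
    ring

theorem J_zero_pos {L H : X.Modules} (hH : CohB1.IsAmple H) {d : ℕ} {ξ : X}
    (hξ : topologicalKrullDim (closure ({ξ} : Set X)) = (d : WithBot ℕ∞)) : 0 < J k L H (Fpt ξ) 0 d := by
  simpa [J] using N_ample_pos (k := k) hH hξ

/-- Ampleness of a positive combination from the mixed numbers. -/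
theorem isAmple_comb {L H : X.Modules} (hL : PicF.IsInvertible L) (hH : CohB1.IsAmple H) {p q : ℕ}
    (hq : 0 < q)
    (h : ∀ ξ : X, ∀ e : ℕ, 0 < e → topologicalKrullDim (closure ({ξ} : Set X)) = (e : WithBot ℕ∞) →
      0 < Pf (fun a b => (J k L H (Fpt ξ) a b : ℝ)) e 0 0 ((p : ℝ) / q)) :
    CohB1.IsAmple (CohB1.tensorMod (CohB1.tensorPow L q) (CohB1.tensorPow H p)) := by
  set A := CohB1.tensorMod (CohB1.tensorPow L q) (CohB1.tensorPow H p) with hAdef
  have hA : PicF.IsInvertible A :=
    isInvertible_tensor (AmpleThLib.tensorPow_isInvertible hL q) (AmpleThLib.tensorPow_isInvertible hH.1 p)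
  refine (Groth.Agent.S7749.result k X A hA).mpr fun Z _ e he hdim P hP => ?_
  change 0 < P.coeff (oneExp e)
  rw [coeff_eq_N A hA Z hdim P (funext fun n => (hilb_eq _ _ n).trans (hP n)), eq_ptIdeal Z]
  set ξ := Z.subschemeι (genericPoint Z.subscheme)
  have hξ : topologicalKrullDim (closure ({ξ} : Set X)) = (e : WithBot ℕ∞) := by
    rw [← hdim]
    conv_rhs => rw [eq_ptIdeal Z, Scheme.IdealSheafData.coe_support_vanishingIdeal ⟨closure {ξ}, isClosed_closure⟩]
    rfl
  have hexp := N_expand (k := k) hL hH.1 (p := p) hq (coh_Fpt k ξ) (d := e)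
    (by rw [supp_Fpt k, hξ]) e 0 0 (by omega)
  simp only [List.replicate_zero, List.append_nil, List.nil_append] at hexp
  have hpos : (0 : ℝ) < N k (List.replicate e A) (Fpt ξ) := by
    rw [hAdef, hexp]
    exact mul_pos (pow_pos (by exact_mod_cast hq) e) (h ξ e he hξ)
  exact_mod_cast (show (0 : ℤ) < N k (List.replicate e A) (Fpt ξ) by exact_mod_cast hpos)

/-- Real positivity of the polynomials from nonnegative mixed numbers. -/
theorem Pf_pos_of_nonneg {L H : X.Modules} (hH : CohB1.IsAmple H) {ξ : X} {e : ℕ}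
    (hξ : topologicalKrullDim (closure ({ξ} : Set X)) = (e : WithBot ℕ∞))
    (h : ∀ a b, a + b = e → 0 ≤ J k L H (Fpt ξ) a b) {t : ℝ} (ht : 0 < t) :
    0 < Pf (fun a b => (J k L H (Fpt ξ) a b : ℝ)) e 0 0 t := by
  refine lt_of_lt_of_le ?_ (le_Pf _ (c := 0) (d := e) (fun a b hab _ => by exact_mod_cast h a b hab)
    e 0 0 (by omega) le_rfl t ht.le)
  refine mul_pos (pow_pos ht e) ?_
  rw [zero_add]
  exact_mod_cast J_zero_pos (k := k) (L := L) hH hξ

/-! ### The induction -/

variable (k) in
/-- The induction statement in dimension `d`. -/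
def Hyp (d : ℕ) : Prop :=
  ∀ (X : Scheme.{u}) [X.Over (Spec (CommRingCat.of k))] [IsProper (X ↘ Spec (CommRingCat.of k))]
    (L H : X.Modules), PicF.IsInvertible L → Nef k L → CohB1.IsAmple H →
    ∀ (a b : ℕ), a + b = d → ∀ ξ : X, topologicalKrullDim (closure ({ξ} : Set X)) = (d : WithBot ℕ∞) →
      0 ≤ J k L H (Fpt ξ) a b

theorem exists_section_pow {X : Scheme.{u}} [Nonempty X] {A : X.Modules} (hA : CohB1.IsAmple A) :
    ∃ (m : ℕ) (φ : Coh.structureModule X ⟶ CohB1.tensorPow A m), 0 < m ∧ φ ≠ 0 := by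
  obtain ⟨x⟩ := ‹Nonempty X›
  obtain ⟨n, s, hx, -⟩ := hA.2.2 x
  refine ⟨n + 1, s, Nat.succ_pos n, fun hs => ?_⟩
  obtain ⟨U, hU, hxU⟩ : ∃ U : X.Opens, IsIso ((Scheme.Modules.restrictFunctor U.ι).map s) ∧ x ∈ U :=
    let ⟨V, hV, hxV⟩ := Opens.mem_sSup.mp hx
    ⟨V, hV, hxV⟩
  haveI : IsIso ((Scheme.Modules.restrictFunctor U.ι).map s) := hU
  have hz : IsZero ((Coh.structureModule X).restrict U.ι) := by
    rw [IsZero.iff_id_eq_zero, ← cancel_mono ((Scheme.Modules.restrictFunctor U.ι).map s), zero_comp, hs,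
      Functor.map_zero, comp_zero]
  have h1 := support_of_isZero (hz.of_iso (Scheme.Modules.restrictUnitIso U.ι).symm :
    IsZero (Coh.structureModule U.toScheme))
  rw [support_structureModule'] at h1
  exact (h1.le (Set.mem_univ (⟨x, hxU⟩ : U.toScheme)) : _)

/-- One ample factor cuts down to lower dimension. -/
theorem N_cons_ample_nonneg [IsIntegral X] {d : ℕ} (hX : topologicalKrullDim X = ((d + 1 : ℕ) : WithBot ℕ∞))
    {A : X.Modules} (hA : CohB1.IsAmple A) {l : List X.Modules} (hl : ∀ B ∈ l, PicF.IsInvertible B)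
    (hlen : l.length = d)
    (h : ∀ ξ : X, topologicalKrullDim (closure ({ξ} : Set X)) = (d : WithBot ℕ∞) → 0 ≤ N k l (Fpt ξ)) :
    0 ≤ N k (A :: l) (Coh.structureModule X) := by
  haveI := CurvLib.isNoetherian k (X := X)
  obtain ⟨m, φ, hm, hσ⟩ := exists_section_pow hA
  have hAm := AmpleThLib.tensorPow_isInvertible hA.1 m
  have hO := DevissLib.isCoh_structureModule X
  have hMc : Coh.IsCoh (CohB1.tensorPow A m) := CurvLib.isCoh_of_isInvertible hAm
  haveI : Mono φ := CurvLib.mono_of_ne_zero CurvLib.isInvertible_structureModule hAm hσ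
  let S : ShortComplex X.Modules := ShortComplex.mk φ (cokernel.π φ) (cokernel.condition φ)
  have hS : S.ShortExact :=
    { exact := ShortComplex.exact_cokernel φ, mono_f := inferInstanceAs (Mono φ)
      epi_g := inferInstanceAs (Epi (cokernel.π φ)) }
  have hC : Coh.IsCoh (cokernel φ) := QCohLib.isCoh_cokernel φ hO.1 hMc
  have h1 := N_add (k := k) hl hS hO hMc hC
  have hle : topologicalKrullDim (CohB1.support (Coh.structureModule X)) ≤ ((l.length + 1 : ℕ) : WithBot ℕ∞) := by
    rw [hlen, ← hX]
    exact topologicalKrullDim_subspace_le _ _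
  have h2 := N_pow (k := k) hl hA.1 hO hle m
  rw [N, N_congr l (show CohB1.tensorMod (CohB1.tensorPow A m) (Coh.structureModule X) ≅ CohB1.tensorPow A m from
    swapIso _ _ ≪≫ unitLeft _), h1, add_sub_cancel_left] at h2
  have h3 : 0 ≤ N k l (cokernel φ) := by
    refine N_nonneg hl hC ?_ fun ξ _ hξ => h ξ (by rw [hξ, hlen])
    rw [hlen]
    have := CurvLib.generic_notMem_support_cokernel CurvLib.isInvertible_structureModule hAm hσ
    refine dim_le_iff.mp ?_
    refine dim_lt_of_notMem (QCohLib.isClosed_support _ hC.2) (fun z _ => ?_) this (Y := Set.univ)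
      (Set.subset_univ _) ?_
    · rw [(genericPoint_spec X).def]; exact trivial
    · exact ((topologicalKrullDim_subspace_le _ _).trans hX.le).trans_lt (by exact_mod_cast Nat.lt_succ_self (d + 1))
  have hm' : (0 : ℤ) < m := by exact_mod_cast hm
  change N k l (cokernel φ) = _ at h2
  nlinarith

theorem N_structure [IsIntegral X] {l : List X.Modules} (hl : ∀ A ∈ l, PicF.IsInvertible A)
    (hX : topologicalKrullDim X = (l.length : WithBot ℕ∞)) :
    N k l (Coh.structureModule X) = N k l (Fpt (genericPoint X)) := by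
  haveI := CurvLib.isNoetherian k (X := X)
  set η := genericPoint X
  have hgen : closure ({η} : Set X) = Set.univ := (genericPoint_spec X).def
  have hdη : topologicalKrullDim (closure ({η} : Set X)) = (l.length : WithBot ℕ∞) := by
    rw [hgen, ← hX]; exact (Homeomorph.Set.univ _).isHomeomorph.topologicalKrullDim_eq
  obtain ⟨T, hT, -, hsum⟩ := N_sum (k := k) hl (DevissLib.isCoh_structureModule X)
    (by rw [support_structureModule']; exact Set.univ_nonempty)
    ((topologicalKrullDim_subspace_le _ _).trans hX.le)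
  have hT' : T = {η} := Finset.ext fun y => by
    rw [hT, Finset.mem_singleton, support_structureModule']
    refine ⟨fun ⟨_, hy⟩ => ?_, fun hy => ⟨trivial, by rw [hy]; exact hdη⟩⟩
    exact (eq_of_specializes_of_dim isClosed_univ ((topologicalKrullDim_subspace_le _ _).trans hX.le) hy
      trivial ((genericPoint_spec X).specializes trivial)).symm
  have h1 : len (Coh.structureModule X) η = 1 := by
    change Module.length (X.presheaf.stalk η) ((St η).obj (Coh.structureModule X)) = 1
    rw [(CurvLib.stalkStructureEquiv η).length_eq]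
    haveI : IsSimpleModule (X.presheaf.stalk η) (X.presheaf.stalk η) :=
      (isSimpleModule_iff ..).mpr (Ring.isField_iff_isSimpleOrder_ideal.mp (inferInstance : Field X.functionField).toIsField)
    exact Module.length_eq_one _ _
  rw [hsum, hT', Finset.sum_singleton, h1, ENat.toNat_one, one_smul]

end IntFunLib

end
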